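import Mathlib

/-!
# Parity of dimensions attached to commuting isometries in characteristic two

For commuting isometries `s`, `u` of a nondegenerate form with `s` of odd order, the image of
`u + 1` on the moved part of `s` has even dimension: it carries a nondegenerate form preserved by
`s`, and `s` fixes no non-zero vector of it.
-/

set_option autoImplicit false

namespace CfsgLib.Lie.TD4Spec

open Module Polynomial

variable {F : Type*} [Field F]

/-- an invertible matrix without the eigenvalue one preserving a nondegenerate form has even size -/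
theorem even_card_of_preserving {n : Type*} [Fintype n] [DecidableEq n] [CharP F 2]
    (M B : Matrix n n F) (hB : B.det ≠ 0) (h : M.transpose * B * M = B)
    (h1 : (1 - M).det ≠ 0) : Even (Fintype.card n) := by
  by_contra hodd
  rw [Nat.not_even_iff_odd] at hodd
  set d := Fintype.card n
  have hM : M.det * M.det = 1 := by
    have e := congrArg Matrix.det h
    rw [Matrix.det_mul, Matrix.det_mul, Matrix.det_transpose] at e
    exact mul_right_cancel₀ hB (by linear_combination e)
  have hu : IsUnit M.det := IsUnit.of_mul_eq_one _ hM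
  have hinv : M.transpose = B * M⁻¹ * B⁻¹ := by
    calc M.transpose = M.transpose * B * (M * M⁻¹) * B⁻¹ := by
          rw [Matrix.mul_nonsing_inv M hu, mul_one,
            Matrix.mul_nonsing_inv_cancel_right _ _ (isUnit_iff_ne_zero.2 hB)]
      _ = B * M⁻¹ * B⁻¹ := by rw [← mul_assoc, h]
  have hp : M⁻¹.charpoly = M.charpoly := by
    rw [← M.charpoly_transpose, hinv]
    exact (Matrix.charpoly_units_conj (Matrix.nonsingInvUnit B (isUnit_iff_ne_zero.2 hB)) M⁻¹).symm
  have hrev : M.charpoly.reverse = C M.det * M.charpoly := by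
    rw [Matrix.reverse_charpoly, ← hp, Matrix.charpolyRev, Matrix.charpoly, Matrix.charmatrix]
    have e : (Matrix.scalar n (X : F[X]) - (C : F →+* F[X]).mapMatrix M⁻¹) *
        (C : F →+* F[X]).mapMatrix M = -(1 - (X : F[X]) • M.map C) := by
      rw [sub_mul, ← map_mul, Matrix.nonsing_inv_mul M hu, map_one, neg_sub,
        Matrix.scalar_apply, ← Matrix.smul_eq_diagonal_mul]
      rfl
    have e' := congrArg Matrix.det e
    rw [Matrix.det_mul, ← RingHom.map_det, Matrix.det_neg, CharTwo.neg_eq (1 : F[X]), one_pow,
      one_mul] at e'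
    rw [← e', mul_comm]
  set p := M.charpoly with hpdef
  have hp1 : p.eval 1 ≠ 0 := by
    rw [hpdef, Matrix.eval_charpoly, map_one]
    exact h1
  have hdeg : p.natDegree = d := M.charpoly_natDegree_eq_dim
  have hc : M.det = 1 := by
    have e : M.det * M.det = 1 * 1 := by rw [hM, mul_one]
    rcases mul_self_eq_mul_self_iff.1 e with e' | e'
    · exact e'
    · rw [e', CharTwo.neg_eq]
  rw [hc, map_one, one_mul] at hrev
  apply hp1
  rw [Polynomial.eval_eq_sum_range, hdeg]
  simp only [one_pow, mul_one]
  refine Finset.sum_involution (fun i _ => d - i) (fun i hi => ?_) (fun i hi _ => ?_)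
    (fun i hi => ?_) (fun i hi => ?_)
  · have hi' : i ≤ d := by simpa [Nat.lt_succ_iff] using hi
    have e : p.coeff (d - i) = p.coeff i := by
      conv_rhs => rw [← hrev]
      rw [Polynomial.coeff_reverse, hdeg, Polynomial.revAt_le hi']
    rw [e, CharTwo.add_self_eq_zero]
  · have hi' : i ≤ d := by simpa [Nat.lt_succ_iff] using hi
    obtain ⟨k, hk⟩ := hodd
    omega
  · simp
  · simp at hi; omega

variable {V : Type*} [AddCommGroup V] [Module F V] [FiniteDimensional F V]

/-- a space with a fixed-point-free preserved nondegenerate form has even dimension -/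
theorem even_finrank_of_preserved [CharP F 2] (β : LinearMap.BilinForm F V)
    (hnd : ∀ a, (∀ b, β a b = 0) → a = 0) (S : V →ₗ[F] V)
    (hS : ∀ a b, β (S a) (S b) = β a b) (hfix : ∀ a, S a = a → a = 0) : Even (finrank F V) := by
  classical
  let b := Module.finBasis F V
  have h := even_card_of_preserving (LinearMap.toMatrix b b S) (LinearMap.BilinForm.toMatrix b β) ?_ ?_ ?_
  · simpa using h
  · rw [← Matrix.separatingLeft_iff_det_ne_zero, LinearMap.BilinForm.separatingLeft_toMatrix_iff]
    exact hnd
  · rw [← LinearMap.BilinForm.toMatrix_comp b b]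
    congr 1
    exact LinearMap.ext₂ fun a c => hS a c
  · intro hdet
    rw [← LinearMap.toMatrix_one b, ← map_sub, LinearMap.det_toMatrix] at hdet
    obtain ⟨a, ha, ha0⟩ := Submodule.exists_mem_ne_zero_of_ne_bot
      (bot_lt_iff_ne_bot.1 (LinearMap.bot_lt_ker_of_det_eq_zero hdet))
    refine ha0 (hfix a ?_)
    rw [LinearMap.mem_ker, LinearMap.sub_apply, sub_eq_zero, Module.End.one_apply] at ha
    exact ha.symm

/-- a nilpotent map of rank `r` has zero power `r + 1` -/
theorem pow_rank_succ {f : Module.End F V} {k : ℕ} (hf : f ^ k = 0) {r : ℕ}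
    (hr : finrank F (LinearMap.range f) ≤ r) : f ^ (r + 1) = 0 := by
  let g : Module.End F (LinearMap.range f) := f.restrict fun _ _ => LinearMap.mem_range_self f _
  have hg : IsNilpotent g := ⟨k, LinearMap.ext fun a => Subtype.ext (by
    rw [Module.End.pow_restrict, LinearMap.restrict_apply]
    simp [hf])⟩
  have h0 : g ^ r = 0 := by
    have h := (LinearMap.charpoly_nilpotent_tfae g).out 0 1
    have hc := LinearMap.aeval_self_charpoly g
    rw [h.1 hg, map_pow, aeval_X] at hc
    exact pow_eq_zero_of_le hr hc
  ext v
  have h := congrArg Subtype.val (LinearMap.congr_fun h0 ⟨f v, LinearMap.mem_range_self f v⟩)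
  rw [Module.End.pow_restrict, LinearMap.restrict_apply] at h
  simpa [pow_succ] using h

/-- the sum of the powers below a power of two -/
theorem sum_pow_two_pow {R : Type*} [Ring R] [CharP R 2] (u : R) (a : ℕ) :
    ∑ i ∈ Finset.range (2 ^ a), u ^ i = (u + 1) ^ (2 ^ a - 1) := by
  induction a with
  | zero => simp
  | succ a ih =>
    have e : (u + 1) ^ 2 ^ a = u ^ 2 ^ a + 1 := by
      rw [add_pow_char_pow_of_commute 2 a (Commute.one_right u), one_pow]
    have h1 : 2 ^ (a + 1) - 1 = 2 ^ a + (2 ^ a - 1) := by
      have := Nat.one_le_two_pow (n := a); rw [pow_succ]; omega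
    rw [h1, pow_add (u + 1), e, ← ih, pow_succ, mul_two, Finset.sum_range_add]
    simp only [pow_add, ← Finset.mul_sum]
    rw [add_mul, one_mul, add_comm]

/-- the sum of the powers below a product -/
theorem sum_range_mul {R : Type*} [Ring R] (g : R) (b c : ℕ) :
    ∑ i ∈ Finset.range (b * c), g ^ i =
      (∑ j ∈ Finset.range b, (g ^ c) ^ j) * ∑ i ∈ Finset.range c, g ^ i := by
  induction b with
  | zero => simp
  | succ b ih =>
    rw [add_mul, one_mul, Finset.sum_range_add, ih, Finset.sum_range_succ, add_mul]
    congr 1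
    rw [← pow_mul, Finset.mul_sum]
    refine Finset.sum_congr rfl fun i _ => ?_
    rw [mul_comm c b, ← pow_add]

/-- the projection onto the fixed space -/
def fixProj (s : Module.End F V) (m : ℕ) : Module.End F V := ∑ j ∈ Finset.range m, s ^ j

section Proj

variable [CharP F 2] {s : Module.End F V} {m : ℕ}

theorem natCast_odd_smul (F : Type*) [Field F] [CharP F 2] {V : Type*} [AddCommGroup V] [Module F V]
    {m : ℕ} (hm : Odd m) (v : V) : m • v = v := by
  obtain ⟨k, rfl⟩ := hm
  rw [← Nat.cast_smul_eq_nsmul F]
  simp [CharTwo.two_eq_zero]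

theorem fixProj_fix (hm : Odd m) {v : V} (hv : s v = v) : fixProj s m v = v := by
  have e : ∀ j, (s ^ j) v = v := fun j => by
    induction j with
    | zero => simp
    | succ j ih => rw [pow_succ, Module.End.mul_apply, hv, ih]
  simp [fixProj, e, natCast_odd_smul F hm]

theorem s_fixProj (hs : s ^ m = 1) (v : V) : s (fixProj s m v) = fixProj s m v := by
  have h := geom_sum_mul_neg s m
  rw [hs, sub_self, mul_sub, mul_one, sub_eq_zero] at h
  have e : s * fixProj s m = fixProj s m := by
    rw [fixProj, (Commute.sum_right _ _ _ fun j _ => Commute.self_pow s j).eq, ← h]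
  exact LinearMap.congr_fun e v

theorem fixProj_idem (hs : s ^ m = 1) (hm : Odd m) (v : V) :
    fixProj s m (fixProj s m v) = fixProj s m v :=
  fixProj_fix hm (s_fixProj hs v)

theorem fixProj_sym {B : LinearMap.BilinForm F V} (hs : s ^ m = 1)
    (hB : ∀ a b, B (s a) (s b) = B a b) (a b : V) :
    B (fixProj s m a) b = B a (fixProj s m b) := by
  have hpow : ∀ j a b, B ((s ^ j) a) ((s ^ j) b) = B a b := by
    intro j
    induction j with
    | zero => simp
    | succ j ih => intro a b; rw [pow_succ, Module.End.mul_apply, Module.End.mul_apply, ih, hB]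
  simp only [fixProj, LinearMap.sum_apply, map_sum]
  rcases Nat.eq_zero_or_pos m with rfl | hm0
  · simp
  refine Finset.sum_nbij' (fun j => (m - j) % m) (fun j => (m - j) % m) ?_ ?_ ?_ ?_ ?_
  · intro j _; simp [Nat.mod_lt _ hm0]
  · intro j _; simp [Nat.mod_lt _ hm0]
  · intro j hj
    replace hj : j < m := by simpa using hj
    rcases Nat.eq_zero_or_pos j with rfl | h
    · show (m - (m - 0) % m) % m = 0
      simp
    · rw [Nat.mod_eq_of_lt (show m - j < m by omega), Nat.sub_sub_self hj.le, Nat.mod_eq_of_lt hj]
  · intro j hj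
    replace hj : j < m := by simpa using hj
    rcases Nat.eq_zero_or_pos j with rfl | h
    · show (m - (m - 0) % m) % m = 0
      simp
    · rw [Nat.mod_eq_of_lt (show m - j < m by omega), Nat.sub_sub_self hj.le, Nat.mod_eq_of_lt hj]
  · intro j hj
    simp only [Finset.mem_range] at hj
    have e : (s ^ ((m - j) % m)) * s ^ j = 1 := by
      rcases Nat.eq_zero_or_pos j with rfl | h
      · simp
      · rw [Nat.mod_eq_of_lt (show m - j < m by omega), ← pow_add, Nat.sub_add_cancel hj.le, hs]
    calc B ((s ^ j) a) b
        = B ((s ^ ((m - j) % m)) ((s ^ j) a)) ((s ^ ((m - j) % m)) b) := (hpow _ _ _).symm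
      _ = _ := by rw [← Module.End.mul_apply, e, Module.End.one_apply]

theorem fixProj_comm {g : Module.End F V} (h : Commute g s) : Commute g (fixProj s m) :=
  Commute.sum_right _ _ _ fun _ _ => h.pow_right _

/-- the moved part has even dimension -/
theorem even_moved (B : LinearMap.BilinForm F V) (hnd : ∀ a, (∀ b, B a b = 0) → a = 0)
    (hB : ∀ a b, B (s a) (s b) = B a b) (hs : s ^ m = 1) (hm : Odd m)
    (hker : ∀ w, w ∈ LinearMap.ker (fixProj s m) → s w ∈ LinearMap.ker (fixProj s m) :=
      fun w hw => by
        rw [LinearMap.mem_ker, ← Module.End.mul_apply,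
          ← (fixProj_comm (Commute.refl s)).eq, Module.End.mul_apply, LinearMap.mem_ker.1 hw,
          map_zero]) :
    Even (finrank F (LinearMap.ker (fixProj s m))) := by
  refine even_finrank_of_preserved
    (B.comp (LinearMap.ker (fixProj s m)).subtype (LinearMap.ker (fixProj s m)).subtype)
    (fun a ha => Subtype.ext (hnd _ fun b => ?_)) (s.restrict hker) (fun a b => hB _ _)
    fun a ha => ?_
  · have e : b = fixProj s m b + (b - fixProj s m b) := by abel
    rw [e, map_add, ← fixProj_sym hs hB, LinearMap.mem_ker.1 a.2, map_zero, LinearMap.zero_apply,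
      zero_add]
    exact ha ⟨b - fixProj s m b, by
      rw [LinearMap.mem_ker, map_sub, fixProj_idem hs hm, sub_self]⟩
  · have e := congrArg Subtype.val ha
    refine Subtype.ext ?_
    rw [← fixProj_fix hm (show s (a : V) = a from e)]
    exact LinearMap.mem_ker.1 a.2

/-- `u + 1` has image of even dimension on the moved part -/
theorem even_moved_image (B : LinearMap.BilinForm F V) (hnd : ∀ a, (∀ b, B a b = 0) → a = 0)
    (hB : ∀ a b, B (s a) (s b) = B a b) (hs : s ^ m = 1) (hm : Odd m)
    (u u' : Module.End F V) (hu : u' * u = 1) (hu2 : u * u' = 1) (hc : Commute u s)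
    (hBu : ∀ a b, B (u a) (u b) = B a b) :
    Even (finrank F (LinearMap.range ((u + 1) * (1 - fixProj s m)))) := by
  set h := (u + 1) * (1 - fixProj s m) with hdef
  have hcs : Commute h s :=
    (hc.add_left (Commute.one_left s)).mul_left
      ((Commute.one_left s).sub_left (fixProj_comm (Commute.refl s)).symm)
  have hadj : ∀ x y, B (h x) y = B x (u' (h y)) := by
    intro x y
    have e1 : ∀ p q, B ((u + 1) p) q = B p (u' ((u + 1) q)) := by
      intro p q
      have hh : B (u p) q = B p (u' q) := by
        have hq : u (u' q) = q := LinearMap.congr_fun hu2 q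
        conv_lhs => rw [← hq]
        exact hBu _ _
      simp only [map_add, LinearMap.add_apply, Module.End.one_apply, hh]
      rw [← Module.End.mul_apply u' u, hu, Module.End.one_apply]
      abel
    have e2 : ∀ p q, B ((1 - fixProj s m) p) q = B p ((1 - fixProj s m) q) := by
      intro p q
      simp only [LinearMap.sub_apply, Module.End.one_apply, map_sub, LinearMap.sub_apply,
        fixProj_sym hs hB]
    have hcu' : Commute u' (fixProj s m) := by
      refine fixProj_comm ?_
      show u' * s = s * u'
      calc u' * s = u' * (s * (u * u')) := by rw [hu2, mul_one]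
        _ = u' * (u * (s * u')) := by rw [← mul_assoc s u, ← hc.eq, mul_assoc]
        _ = s * u' := by rw [← mul_assoc, hu, one_mul]
    rw [hdef, Module.End.mul_apply, e1, e2]
    congr 1
    have c1 : Commute (1 - fixProj s m) (u' * (u + 1)) :=
      ((Commute.one_left _).sub_left hcu'.symm).mul_right
        (((Commute.one_left _).sub_left (fixProj_comm hc).symm).add_right (Commute.one_right _))
    have := LinearMap.congr_fun c1.eq y
    simpa only [Module.End.mul_apply] using this
  obtain ⟨sec, hsec⟩ := h.rangeRestrict.exists_rightInverse_of_surjective h.range_rangeRestrict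
  have hsec' : ∀ b : LinearMap.range h, h (sec b) = b := fun b =>
    congrArg Subtype.val (LinearMap.congr_fun hsec b)
  have hinv : ∀ w, w ∈ LinearMap.range h → s w ∈ LinearMap.range h := by
    rintro _ ⟨x, rfl⟩
    exact ⟨s x, LinearMap.congr_fun hcs.eq x⟩
  refine even_finrank_of_preserved (B.comp (LinearMap.range h).subtype sec)
    (fun a ha => ?_) (s.restrict hinv) (fun a b => ?_) fun a ha => ?_
  · obtain ⟨x, hx⟩ := a.2
    refine Subtype.ext (hnd _ fun y => ?_)
    have h0 : B (a : V) (sec ⟨h y, LinearMap.mem_range_self h y⟩) = 0 := ha _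
    rw [← hx, hadj] at h0 ⊢
    rwa [hsec'] at h0
  · obtain ⟨x, hx⟩ := a.2
    show B (s a) (sec ⟨s b, _⟩) = B (a : V) (sec b)
    rw [← hB (a : V) (sec b), ← hx, ← Module.End.mul_apply s h, ← hcs.eq, Module.End.mul_apply,
      hadj, hadj, hsec']
    congr 2
    show s (b : V) = h (s (sec b))
    rw [← Module.End.mul_apply h s, hcs.eq, Module.End.mul_apply, hsec']
  · obtain ⟨x, hx⟩ := a.2
    refine Subtype.ext ?_
    rw [← fixProj_fix hm (show s (a : V) = a from congrArg Subtype.val ha), ← hx, hdef,
      Module.End.mul_apply, ← Module.End.mul_apply (fixProj s m) (u + 1),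
      ← ((fixProj_comm hc).add_left (Commute.one_left _)).eq, Module.End.mul_apply]
    simp [fixProj_idem hs hm]

end Proj

end CfsgLib.Lie.TD4Spec
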