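import Cfsg.Agent.Lib.Lie.TD4Spec.Tensor
import Cfsg.Agent.Lib.Lie.TD4Spec.Linear

/-!
# Fixed spaces of elements intertwining the product

If `S` fixes a non-singular vector of its twist, left multiplication by it conjugates the second
twist into `S`; a fixed space which is not everything has at most half the dimension.
-/

set_option autoImplicit false

namespace CfsgLib.Lie.TD4Spec

open Module

variable {K : Type*} [Field K]

/-- the endomorphism of a matrix -/
noncomputable abbrev en (M : Matrix J J K) : Module.End K (J → K) := Matrix.toLinAlgEquiv' M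

theorem en_apply (M : Matrix J J K) (x : J → K) : en M x = M.mulVec x :=
  Matrix.toLinAlgEquiv'_apply M x

variable [CharP K 2]

theorem pol_preserved {T : Module.End K (J → K)} (h : ∀ x, Qf (T x) = Qf x) (x y : J → K) :
    pol (T x) (T y) = pol x y := by
  have e := h (x + y)
  rw [map_add, Qf_add, Qf_add, h, h] at e
  exact add_left_cancel e

theorem exists_nonsing {P : Module.End K (J → K)} (hP : ∀ v, P (P v) = P v)
    (hsym : ∀ a b, pol (P a) b = pol a (P b)) {a : J → K} (ha : P a = a) (ha0 : a ≠ 0) :
    ∃ x, P x = x ∧ Qf x ≠ 0 := by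
  by_contra hne
  push Not at hne
  refine ha0 (pol_nondeg a fun b => ?_)
  rw [← ha, hsym]
  have e := hne (a + P b) (by rw [map_add, hP, ha])
  rwa [Qf_add, hne a ha, hne _ (hP b), zero_add, zero_add] at e

theorem pol_mu_left (x y z : J → K) : pol (mu x y) (mu x z) = Qf x * pol y z := by
  have e := Qf_mu x (y + z)
  rw [← muB_apply, map_add, muB_apply, muB_apply, Qf_add, Qf_add, Qf_mu, Qf_mu] at e
  linear_combination e

theorem pol_mu_right (x y z : J → K) : pol (mu y x) (mu z x) = pol y z * Qf x := by
  have e := Qf_mu (y + z) x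
  rw [← muB_apply, map_add, LinearMap.add_apply, muB_apply, muB_apply, Qf_add, Qf_add, Qf_mu,
    Qf_mu] at e
  linear_combination e

theorem muB_left_bijective {x : J → K} (hx : Qf x ≠ 0) : Function.Bijective (muB x) := by
  have hi : Function.Injective (muB x) := (injective_iff_map_eq_zero _).2 fun z hz => by
    refine pol_nondeg z fun y => ?_
    rw [muB_apply] at hz
    have e := pol_mu_left x y z
    rw [hz] at e
    rw [pol_comm]
    exact (mul_eq_zero.1 (e.symm.trans (by simp [pol]))).resolve_left hx
  exact ⟨hi, LinearMap.injective_iff_surjective.1 hi⟩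

theorem muB_right_injective {e : J → K} (he : Qf e ≠ 0) :
    Function.Injective (muB.flip e : (J → K) →ₗ[K] (J → K)) :=
  (injective_iff_map_eq_zero _).2 fun z hz => by
    refine pol_nondeg z fun y => ?_
    rw [LinearMap.flip_apply, muB_apply] at hz
    have h := pol_mu_right e y z
    rw [hz] at h
    rw [pol_comm]
    exact (mul_eq_zero.1 (h.symm.trans (by simp [pol]))).resolve_right he

variable {S S₁ S₂ : Module.End K (J → K)} {m : ℕ}

section

variable (hS : ∀ x y, mu (S₁ x) (S₂ y) = S (mu x y))

include hS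

/-- a preimage of a fixed vector is fixed -/
theorem fixed_preimage {x : J → K} (hx : S₁ x = x) (hQ : Qf x ≠ 0) {y : J → K}
    (hy : S (mu x y) = mu x y) : S₂ y = y :=
  (muB_left_bijective hQ).1 (by
    rw [muB_apply, muB_apply]
    have e := hS x y
    rw [hx] at e
    rw [e, hy])

/-- the twist by a non-singular fixed vector -/
theorem conj_of_fixed {x : J → K} (hx : S₁ x = x) : muB x * S₂ = S * muB x := by
  refine LinearMap.ext fun y => ?_
  have e := hS x y
  rw [hx] at e
  exact e

/-- the fixed space has at most half the dimension unless it is everything -/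
theorem fixed_small (hm : Odd m) (h0 : S ^ m = 1) (h1 : S₁ ^ m = 1) (h2 : S₂ ^ m = 1)
    (q0 : ∀ x, Qf (S x) = Qf x) (q1 : ∀ x, Qf (S₁ x) = Qf x) (q2 : ∀ x, Qf (S₂ x) = Qf x)
    {r : K} (hr0 : r ≠ 0) (hr1 : r ≠ 1) {e : J → K} (he : fixProj S₂ m e = 0) (heQ : Qf e ≠ 0) :
    finrank K ↥(LinearMap.range (fixProj S₁ m)) +
      finrank K ↥(LinearMap.range (fixProj S m)) ≤ 8 := by
  have p0 := pol_preserved q0
  have p1 := pol_preserved q1
  have p2 := pol_preserved q2
  set P := fixProj S m
  set P₁ := fixProj S₁ m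
  set P₂ := fixProj S₂ m
  let h : (J → K) →ₗ[K] (J → K) := P ∘ₗ (muB.flip e)
  have hns : ∀ x, P₁ x = x → Qf x ≠ 0 → h x = 0 := by
    intro x hx hxQ
    refine pol_nondeg _ fun b => ?_
    show pol (P (mu x e)) b = 0
    have hsymm := fixProj_sym (B := polB) h0 (fun a b => p0 a b) (mu x e) b
    rw [polB_apply, polB_apply] at hsymm
    rw [hsymm]
    obtain ⟨y, hy⟩ := (muB_left_bijective hxQ).2 (P b)
    rw [muB_apply] at hy
    have hxf : S₁ x = x := by rw [← hx, s_fixProj h1]
    have hyf : S₂ y = y := fixed_preimage hS hxf hxQ (by rw [hy]; exact s_fixProj h0 b)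
    rw [← hy, pol_mu_left]
    have hsymm2 := fixProj_sym (B := polB) h2 (fun a b => p2 a b) e y
    rw [polB_apply, polB_apply, he, fixProj_fix hm hyf] at hsymm2
    rw [← hsymm2]
    simp [pol]
  have hker : LinearMap.range P₁ ≤ LinearMap.ker h := by
    rintro _ ⟨z, rfl⟩
    set x := P₁ z
    have hx : P₁ x = x := fixProj_idem h1 hm z
    rw [LinearMap.mem_ker]
    by_cases hxQ : Qf x = 0
    swap
    · exact hns x hx hxQ
    by_cases hx0 : x = 0
    · rw [hx0, map_zero]
    obtain ⟨x₀, hx₀, hx₀Q⟩ := exists_nonsing (fixProj_idem h1 hm)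
      (fun a b => fixProj_sym (B := polB) h1 (fun a b => p1 a b) a b) hx hx0
    have hcomb : ∀ c : K, Qf (x₀ + c • x) = Qf x₀ + c * pol x₀ x := by
      intro c
      have hq : Qf (c • x) = c * c * Qf x := by
        simp only [Qf, Pi.smul_apply, smul_eq_mul, Fin.sum_univ_four]; ring
      have hp : pol x₀ (c • x) = c * pol x₀ x := by
        simp only [pol, Pi.smul_apply, smul_eq_mul, Fin.sum_univ_four]; ring
      rw [Qf_add, hq, hp, hxQ, mul_zero, add_zero]
    have hfix : ∀ c : K, P₁ (x₀ + c • x) = x₀ + c • x := fun c => by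
      rw [map_add, map_smul, hx, hx₀]
    obtain ⟨c, hc0, hcQ⟩ : ∃ c : K, c ≠ 0 ∧ Qf (x₀ + c • x) ≠ 0 := by
      by_cases hc : Qf x₀ + pol x₀ x = 0
      · refine ⟨r, hr0, ?_⟩
        rw [hcomb]
        intro e'
        have h2 := CharTwo.two_eq_zero (R := K)
        have : (1 + r) * Qf x₀ = 0 := by linear_combination e' - r * hc + r * Qf x₀ * h2
        rcases mul_eq_zero.1 this with h' | h'
        · exact hr1 (by linear_combination h' - (CharTwo.two_eq_zero (R := K)))
        · exact hx₀Q h'
      · exact ⟨1, one_ne_zero, by rw [hcomb, one_mul]; exact hc⟩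
    have := hns _ (hfix c) hcQ
    rw [map_add, map_smul, hns _ hx₀ hx₀Q, zero_add] at this
    exact (smul_eq_zero.1 this).resolve_left hc0
  have hmap : (LinearMap.range P₁).map (muB.flip e) ≤ LinearMap.ker P := by
    rintro _ ⟨x, hx, rfl⟩
    exact LinearMap.mem_ker.1 (hker hx)
  have h8 : finrank K (J → K) = 8 := by simp
  have := Submodule.finrank_mono hmap
  rw [← LinearEquiv.finrank_eq (Submodule.equivMapOfInjective _ (muB_right_injective heQ) _)] at this
  have := LinearMap.finrank_range_add_finrank_ker P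
  omega

end

end CfsgLib.Lie.TD4Spec
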