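import Mathlib

/-!
# Odd-order isometries in dimension eight with rational characteristic polynomial

If such a matrix over a field of characteristic two fixes a space of dimension at least two and its
order divides `|³D₄(2)|`, then the order divides seven or nine, and an order nine forces the fixed
space to have dimension two: the roots different from one form a set of at most six roots of
unity closed under squaring and inversion.
-/

set_option autoImplicit false
set_option maxRecDepth 100000

namespace CfsgLib.Lie.TD4Spec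

open Polynomial

/-- the closure of an exponent under doubling and negation -/
def cl (x : ZMod 63) : Finset (ZMod 63) :=
  (Finset.range 6).image (fun i => (2 : ZMod 63) ^ i * x) ∪
    (Finset.range 6).image fun i => -((2 : ZMod 63) ^ i * x)

theorem cl_cases : ∀ x : ZMod 63, (cl x).card ≤ 6 → 9 * x.val % 63 = 0 ∨ 7 * x.val % 63 = 0 := by
  decide +kernel

theorem cl_seven : ∀ x : ZMod 63, x ≠ 0 → 7 * x.val % 63 = 0 →
    6 ≤ (cl x).card ∧ ∀ z ∈ cl x, 7 * z.val % 63 = 0 := by decide +kernel

theorem self_mem_cl : ∀ x : ZMod 63, x ∈ cl x := by decide +kernel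

theorem cl_nine : ∀ x : ZMod 63, 3 * x.val % 63 ≠ 0 → 6 ≤ (cl x).card := by decide +kernel

variable {K : Type*} [Field K] [CharP K 2] {n : Type*} [Fintype n] [DecidableEq n]

theorem order_of_roots (hn : Fintype.card n = 8) (M B : Matrix n n K) (hB : B.det ≠ 0)
    (hinv : M.transpose * B * M = B) (hF : M.charpoly.map (frobenius K 2) = M.charpoly)
    {m : ℕ} (hm : Odd m) (hord : orderOf M = m) (hdiv : m ∣ 2 ^ 12 * 51597)
    (hw : 2 ≤ Module.finrank K ↥(Module.End.eigenspace (Matrix.toLin' M) (1 : K))) :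
    m ∣ 7 ∨ (m ∣ 9 ∧ (m ∣ 3 ∨
      Module.finrank K ↥(Module.End.eigenspace (Matrix.toLin' M) (1 : K)) ≤ 2)) := by
  classical
  set w := Module.finrank K ↥(Module.End.eigenspace (Matrix.toLin' M) (1 : K))
  set Ω := AlgebraicClosure K
  set ι : K →+* Ω := algebraMap K Ω
  have : CharP Ω 2 := charP_of_injective_ringHom ι.injective 2
  have hpow : M ^ m = 1 := by rw [← hord]; exact pow_orderOf_eq_one M
  set p := M.charpoly.map ι with hp
  have hp0 : p ≠ 0 := (M.charpoly_monic.map ι).ne_zero
  set R := (p.roots.toFinset).erase 1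
  have hroot : ∀ l : Ω, l ∈ R ↔ l ≠ 1 ∧ p.eval l = 0 := fun l => by
    simp [R, Polynomial.mem_roots hp0, Polynomial.IsRoot]
  have heval : ∀ l : Ω, p.eval l = (Matrix.scalar n l - M.map ι).det := fun l => by
    rw [hp, ← Matrix.charpoly_map, Matrix.eval_charpoly]
  have hpm : ∀ l : Ω, p.eval l = 0 → l ^ m = 1 := by
    intro l hl
    rw [heval, ← Matrix.exists_mulVec_eq_zero_iff] at hl
    obtain ⟨v, hv0, hv⟩ := hl
    rw [Matrix.sub_mulVec, sub_eq_zero, Matrix.scalar_apply] at hv
    have hv' : (M.map ι).mulVec v = l • v := by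
      rw [← hv]; funext i; simp [Matrix.mulVec_diagonal]
    have e : ∀ j : ℕ, ((M.map ι) ^ j).mulVec v = l ^ j • v := by
      intro j
      induction j with
      | zero => simp
      | succ j ih => rw [pow_succ', ← Matrix.mulVec_mulVec, ih, Matrix.mulVec_smul, hv', smul_smul,
          ← pow_succ]
    have e' := e m
    rw [show (M.map ι) ^ m = (ι.mapMatrix M) ^ m from rfl, ← map_pow, hpow, map_one,
      Matrix.one_mulVec] at e'
    exact (smul_left_injective Ω hv0 (by simpa using e')).symm
  have hsq : ∀ l : Ω, p.eval l = 0 → p.eval (l ^ 2) = 0 := by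
    intro l hl
    have hmap : p.map (frobenius Ω 2) = p := by
      rw [hp, Polynomial.map_map, ← RingHom.frobenius_comm, ← Polynomial.map_map, hF]
    rw [← hmap, Polynomial.eval_map, ← frobenius_def (R := Ω) 2 l, Polynomial.eval₂_hom, hl, map_zero]
  have hneg : ∀ l : Ω, p.eval l = 0 → p.eval l⁻¹ = 0 := by
    intro l hl
    have hl0 : l ≠ 0 := fun e => by
      have h := hpm l hl
      obtain ⟨k, hk⟩ := hm
      rw [e, hk, pow_succ, mul_zero] at h
      exact zero_ne_one h
    set A := M.map ι
    set C := B.map ι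
    have hC : C.det ≠ 0 := by
      rw [show C = ι.mapMatrix B from rfl, ← RingHom.map_det]
      exact fun e => hB (ι.injective (e.trans (map_zero ι).symm))
    have hA : A.transpose * C * A = C := by
      show (M.map ι).transpose * B.map ι * M.map ι = B.map ι
      rw [← Matrix.transpose_map, ← Matrix.map_mul, ← Matrix.map_mul, hinv]
    rw [heval] at hl ⊢
    have e : A.transpose * C * (Matrix.scalar n l - A) =
        (-l) • ((Matrix.scalar n l⁻¹ - A.transpose) * C) := by
      rw [Matrix.mul_sub, hA, Matrix.sub_mul, Matrix.scalar_apply, Matrix.scalar_apply,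
        ← Matrix.smul_eq_diagonal_mul, ← Matrix.smul_one_eq_diagonal, Matrix.mul_smul,
        Matrix.mul_one, smul_sub, smul_smul, neg_mul, mul_inv_cancel₀ hl0, neg_smul, one_smul,
        neg_smul]
      abel
    have e' := congrArg Matrix.det e
    rw [Matrix.det_mul, hl, mul_zero, Matrix.det_smul, Matrix.det_mul] at e'
    have h0 : (Matrix.scalar n l⁻¹ - A.transpose).det = 0 :=
      ((mul_eq_zero.1 ((mul_eq_zero.1 e'.symm).resolve_left
        (pow_ne_zero _ (neg_ne_zero.2 hl0)))).resolve_right hC)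
    rw [← Matrix.det_transpose, Matrix.transpose_sub, Matrix.scalar_apply,
      Matrix.diagonal_transpose]
    simpa [Matrix.scalar_apply] using h0
  have hcard : R.card + w ≤ 8 := by
    have h1 : w ≤ p.roots.count 1 := by
      rw [Polynomial.count_roots, ← map_one ι, ← Polynomial.eq_rootMultiplicity_map ι.injective]
      have h := LinearMap.finrank_eigenspace_le (Matrix.toLin' M) (1 : K)
      rwa [Matrix.charpoly_toLin'] at h
    have h2 : p.roots.card ≤ 8 := by
      refine (Polynomial.card_roots' p).trans ?_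
      rw [hp, Polynomial.natDegree_map, M.charpoly_natDegree_eq_dim, hn]
    have h3 : (p.roots.filter fun l => l ≠ 1).toFinset = R := by
      ext l; simp [R, and_comm]
    have h4 := Multiset.toFinset_card_le (p.roots.filter fun l => l ≠ 1)
    have h5 := congrArg Multiset.card (Multiset.filter_add_not (fun l => l ≠ 1) p.roots)
    rw [Multiset.card_add] at h5
    rw [h3] at h4
    have h6 : (p.roots.filter fun l => ¬ l ≠ 1).card = p.roots.count 1 := by
      rw [Multiset.count_eq_card_filter_eq]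
      congr 1
      exact Multiset.filter_congr fun l _ => by simp [eq_comm]
    omega
  have h63 : ∀ l ∈ R, l ^ 63 = 1 := by
    intro l hl
    obtain ⟨hl1, hl0⟩ := (hroot l).1 hl
    have hmem : ∀ i, l ^ 2 ^ i ∈ R := by
      intro i
      induction i with
      | zero => simpa using hl
      | succ i ih =>
        obtain ⟨a, b⟩ := (hroot _).1 ih
        refine (hroot _).2 ⟨fun e => a ?_, by rw [pow_succ, pow_mul]; exact hsq _ b⟩
        rw [pow_succ, pow_mul] at e
        exact frobenius_inj Ω 2 (by simpa [frobenius_def] using e)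
    obtain ⟨i, hi, j, hj, hij, e⟩ : ∃ i ∈ Finset.range 7, ∃ j ∈ Finset.range 7, i ≠ j ∧
        l ^ 2 ^ i = l ^ 2 ^ j :=
      Finset.exists_ne_map_eq_of_card_lt_of_maps_to (t := R) (by simp; omega) fun i _ => hmem i
    simp only [Finset.mem_range] at hi hj
    wlog hlt : i < j generalizing i j
    · exact this j i (Ne.symm hij) e.symm hj hi (by omega)
    have hd : l ^ (2 ^ (j - i) - 1) = 1 := by
      have e2 : l ^ 2 ^ (j - i) = l := by
        refine ((frobenius_inj Ω 2).iterate i) ?_
        simp only [iterate_frobenius, ← pow_mul, ← pow_add]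
        rw [show j - i + i = j by omega, e]
      have hl0' : l ≠ 0 := fun e => by
        have h := hpm l hl0
        obtain ⟨k, hk⟩ := hm
        rw [e, hk, pow_succ, mul_zero] at h
        exact zero_ne_one h
      refine mul_left_cancel₀ hl0' ?_
      rw [← pow_succ', Nat.sub_add_cancel Nat.one_le_two_pow, e2, mul_one]
    have hm' : l ^ 51597 = 1 := by
      have hdvd : m ∣ 51597 :=
        (Nat.Coprime.pow_right 12 (Nat.coprime_two_right.2 hm)).dvd_of_dvd_mul_left hdiv
      obtain ⟨k, hk⟩ := hdvd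
      rw [hk, pow_mul, hpm l hl0, one_pow]
    have hg := pow_gcd_eq_one.2 ⟨hd, hm'⟩
    have hdvd : ∀ d ∈ Finset.range 7, 0 < d → Nat.gcd (2 ^ d - 1) 51597 ∣ 63 := by decide +kernel
    obtain ⟨k, hk⟩ := hdvd (j - i) (Finset.mem_range.2 (by omega)) (by omega)
    rw [hk, pow_mul, hg, one_pow]
  have : NeZero ((63 : ℕ) : Ω) := ⟨by rw [Ne, CharP.cast_eq_zero_iff Ω 2]; decide⟩
  obtain ⟨ζ, hζ⟩ := IsAlgClosed.exists_root (cyclotomic 63 Ω)
    (by rw [Polynomial.degree_cyclotomic]; decide)
  have hprim : IsPrimitiveRoot ζ 63 := Polynomial.isRoot_cyclotomic_iff.1 hζ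
  have hexp : ∀ l ∈ R, ∃ x : ZMod 63, x ≠ 0 ∧ ζ ^ x.val = l := by
    intro l hl
    obtain ⟨i, hi, e⟩ := hprim.eq_pow_of_pow_eq_one (h63 l hl)
    refine ⟨(i : ZMod 63), fun hx => ((hroot l).1 hl).1 ?_, by rwa [ZMod.val_natCast, Nat.mod_eq_of_lt hi]⟩
    rw [ZMod.natCast_eq_zero_iff, Nat.dvd_iff_mod_eq_zero, Nat.mod_eq_of_lt hi] at hx
    rw [← e, hx, pow_zero]
  have hval : ∀ (k : ℕ), ζ ^ (k % 63) = ζ ^ k := fun k => by
    conv_rhs => rw [← Nat.mod_add_div k 63, pow_add, pow_mul, hprim.pow_eq_one, one_pow, mul_one]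
  have hinjζ : ∀ x y : ZMod 63, ζ ^ x.val = ζ ^ y.val → x = y := fun x y e =>
    ZMod.val_injective 63 (hprim.pow_inj (ZMod.val_lt x) (ZMod.val_lt y) e)
  have hclR : ∀ x : ZMod 63, ζ ^ x.val ∈ R → ∀ y ∈ cl x, ζ ^ y.val ∈ R := by
    intro x hx
    have hdbl : ∀ i : ℕ, ζ ^ ((2 : ZMod 63) ^ i * x).val ∈ R := by
      intro i
      induction i with
      | zero => simpa using hx
      | succ i ih =>
        obtain ⟨a, b⟩ := (hroot _).1 ih
        rw [pow_succ, mul_comm _ (2 : ZMod 63), mul_assoc, ZMod.val_mul, hval,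
          show (2 : ZMod 63).val = 2 from rfl, mul_comm, pow_mul]
        refine (hroot _).2 ⟨fun e => a ?_, hsq _ b⟩
        exact frobenius_inj Ω 2 (by simpa [frobenius_def] using e)
    intro y hy
    simp only [cl, Finset.mem_union, Finset.mem_image] at hy
    rcases hy with ⟨i, -, rfl⟩ | ⟨i, -, rfl⟩
    · exact hdbl i
    · obtain ⟨a, b⟩ := (hroot _).1 (hdbl i)
      have e : ζ ^ (-((2 : ZMod 63) ^ i * x)).val = (ζ ^ ((2 : ZMod 63) ^ i * x).val)⁻¹ := by
        refine eq_inv_of_mul_eq_one_left ?_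
        rw [← pow_add, ← hval, ← ZMod.val_add, neg_add_cancel, ZMod.val_zero, pow_zero]
      rw [e]
      exact (hroot _).2 ⟨fun h => a (inv_eq_one.1 h), hneg _ b⟩
  have hbound : ∀ x y : ZMod 63, ζ ^ x.val ∈ R → ζ ^ y.val ∈ R → (cl x ∪ cl y).card ≤ R.card := by
    intro x y hx hy
    refine Finset.card_le_card_of_injOn (fun z => ζ ^ z.val) (fun z hz => ?_)
      fun a _ b _ e => hinjζ a b e
    rcases Finset.mem_union.1 hz with h | h
    exacts [hclR x hx z h, hclR y hy z h]
  have hkill : ∀ L : ℕ, (∀ l ∈ R, l ^ L = 1) → m ∣ L := by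
    intro L hL
    have hdvd : M.charpoly ∣ (X ^ L - 1) ^ 8 := by
      rw [← Polynomial.map_dvd_map' ι, ← hp, Polynomial.map_pow, Polynomial.map_sub,
        Polynomial.map_pow, Polynomial.map_X, Polynomial.map_one,
        (IsAlgClosed.splits p).eq_prod_roots_of_monic (M.charpoly_monic.map ι)]
      have h8 : (p.roots.map fun a => X - C a).prod ∣
          ((p.roots.map fun _ => (Polynomial.X : Polynomial Ω) ^ L - 1)).prod := by
        refine Multiset.prod_dvd_prod_of_dvd _ _ fun a ha => ?_
        rw [Polynomial.dvd_iff_isRoot]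
        have ha' : a ^ L = 1 := by
          by_cases h1 : a = 1
          · rw [h1, one_pow]
          · exact hL a ((hroot a).2 ⟨h1, ((Polynomial.mem_roots hp0).1 ha)⟩)
        simp [Polynomial.IsRoot, ha']
      refine h8.trans ?_
      rw [Multiset.map_const', Multiset.prod_replicate]
      refine pow_dvd_pow _ ((Polynomial.card_roots' p).trans ?_)
      rw [hp, Polynomial.natDegree_map, M.charpoly_natDegree_eq_dim, hn]
    obtain ⟨c, hc⟩ := hdvd
    have h := congrArg (Polynomial.aeval M) hc
    rw [map_mul, Matrix.aeval_self_charpoly, zero_mul, map_pow, map_sub, map_pow, map_one,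
      Polynomial.aeval_X] at h
    have : Nonempty n := Fintype.card_pos_iff.1 (by omega)
    have : CharP (Matrix n n K) 2 := inferInstance
    have h2 : M ^ (L * 8) = 1 := by
      have e := sub_pow_char_pow_of_commute 2 3 (Commute.one_right (M ^ L))
      rw [show (2 : ℕ) ^ 3 = 8 from rfl, h, one_pow, ← pow_mul] at e
      exact (sub_eq_zero.1 e.symm)
    rw [← hord]
    refine (Nat.Coprime.pow_right 3 (Nat.coprime_two_right.2 ?_)).dvd_of_dvd_mul_right
      (orderOf_dvd_of_pow_eq_one (show M ^ (L * 2 ^ 3) = 1 from h2))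
    rw [hord]; exact hm
  have hpowx : ∀ (x : ZMod 63) (L : ℕ), L * x.val % 63 = 0 → (ζ ^ x.val) ^ L = 1 := by
    intro x L h
    rw [← pow_mul, mul_comm, ← hval, h, pow_zero]
  by_cases h7 : ∀ l ∈ R, l ^ 7 = 1
  · exact Or.inl (hkill 7 h7)
  push Not at h7
  obtain ⟨l, hl, hl7⟩ := h7
  obtain ⟨x, hx0, rfl⟩ := hexp l hl
  have h9 : ∀ l' ∈ R, l' ^ 9 = 1 := by
    intro l' hl'
    obtain ⟨y, hy0, rfl⟩ := hexp l' hl'
    have hc := (hbound x y hl hl').trans (by omega : R.card ≤ 6)
    rcases cl_cases y ((Finset.card_le_card Finset.subset_union_right).trans hc) with b | b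
    · exact hpowx y 9 b
    · exfalso
      obtain ⟨h6, h7'⟩ := cl_seven y hy0 b
      have e := Finset.eq_of_subset_of_card_le
        (Finset.subset_union_right : cl y ⊆ cl x ∪ cl y) (hc.trans h6)
      exact hl7 (hpowx x 7 (h7' x (e ▸ Finset.mem_union_left _ (self_mem_cl x))))
  refine Or.inr ⟨hkill 9 h9, ?_⟩
  by_cases h3 : ∀ l' ∈ R, l' ^ 3 = 1
  · exact Or.inl (hkill 3 h3)
  push Not at h3
  obtain ⟨l', hl', hl3⟩ := h3
  obtain ⟨y, hy0, rfl⟩ := hexp l' hl'
  have hc := hbound y y hl' hl'
  rw [Finset.union_self] at hc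
  have := cl_nine y fun h => hl3 (hpowx y 3 h)
  exact Or.inr (by omega)

end CfsgLib.Lie.TD4Spec
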