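import Cfsg.Agent.Lib.Lie.TD4Spec.Rep
import Cfsg.Agent.Lib.Lie.TD4Spec.Fixed
import Cfsg.Agent.Lib.Lie.TD4Spec.Roots

/-!
# The elements of ³D₄(2) whose sum of powers is not zero on the eight-dimensional module

Their orders are among 1, 2, 3, 4, 6, 7, 9, 14.
-/

set_option autoImplicit false
set_option maxHeartbeats 1000000

namespace CfsgLib.Lie.TD4Spec

open Cfsg.Lie CfsgLib.Lie.Chev Module
open scoped MatrixGroups

variable {K : Type*} [Field K] [Fintype K] [CharP K 2]

/-- the twist of a vector -/
def tw (f : K →+* K) (x : J → K) : J → K := fun i => f (x i)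

omit [Fintype K] [CharP K 2] in
theorem tw_mulVec (f : K →+* K) (M : Matrix J J K) (x : J → K) :
    (M.map f).mulVec (tw f x) = tw f (M.mulVec x) := by
  funext i
  exact ((RingHom.map_mulVec f M x i).trans rfl).symm

omit [CharP K 2] in
theorem tw_bijective (f : K →+* K) : Function.Bijective (tw (K := K) f) :=
  Finite.injective_iff_bijective.1 fun x y h => funext fun i => f.injective (congrFun h i)

omit [Fintype K] in
theorem qf_map [Finite K] (f : K →+* K) {M : Matrix J J K} (h : ∀ x, Qf (M.mulVec x) = Qf x)
    (y : J → K) : Qf ((M.map f).mulVec y) = Qf y := by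
  haveI := Fintype.ofFinite K
  obtain ⟨x, rfl⟩ := (tw_bijective f).2 y
  have e : ∀ z, Qf (tw f z) = f (Qf z) := fun z => by simp [Qf, tw]
  rw [tw_mulVec, e, e, h]

omit [CharP K 2] in
/-- a field automorphism does not change the dimension of a fixed space -/
theorem finrank_fixed_map (f : K →+* K) (M : Matrix J J K) :
    finrank K ↥(Module.End.eigenspace (en (M.map f)) (1 : K)) =
      finrank K ↥(Module.End.eigenspace (en M) (1 : K)) := by
  have e : ∀ x, tw f x ∈ Module.End.eigenspace (en (M.map f)) (1 : K) ↔
      x ∈ Module.End.eigenspace (en M) (1 : K) := fun x => by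
    rw [Module.End.mem_eigenspace_iff, Module.End.mem_eigenspace_iff, one_smul, one_smul,
      en_apply, en_apply, tw_mulVec]
    exact (tw_bijective f).1.eq_iff
  have hc := Nat.card_congr ((Equiv.ofBijective _ (tw_bijective (K := K) f)).subtypeEquiv
    fun x => (e x).symm)
  have hc' : Nat.card ↥(Module.End.eigenspace (en M) (1 : K)) =
      Nat.card ↥(Module.End.eigenspace (en (M.map f)) (1 : K)) := hc
  rw [Module.natCard_eq_pow_finrank (K := K) (V := ↥(Module.End.eigenspace (en M) (1 : K))),
    Module.natCard_eq_pow_finrank (K := K)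
      (V := ↥(Module.End.eigenspace (en (M.map f)) (1 : K)))] at hc'
  exact (Nat.pow_right_injective (Finite.one_lt_card) hc').symm

omit [Fintype K] in
theorem range_fixProj {T : Module.End K (J → K)} {m : ℕ} (hm : Odd m) (h : T ^ m = 1) :
    LinearMap.range (fixProj T m) = Module.End.eigenspace T (1 : K) := by
  ext x
  rw [Module.End.mem_eigenspace_iff, one_smul]
  exact ⟨by rintro ⟨z, rfl⟩; exact s_fixProj h z, fun hx => ⟨x, fixProj_fix hm hx⟩⟩

theorem exists_scalar (hK : Fintype.card K = 2 ^ 3) : ∃ r : K, r ≠ 0 ∧ r ≠ 1 := by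
  classical
  by_contra hne
  push Not at hne
  have h : (Finset.univ : Finset K) ⊆ {0, 1} := fun r _ => by
    by_cases h0 : r = 0
    · simp [h0]
    · simp [hne r h0]
  have h' := Finset.card_le_card h
  rw [Finset.card_univ, hK] at h'
  have := Finset.card_le_two (a := (0 : K)) (b := 1)
  omega

omit [Fintype K] [CharP K 2] in
/-- conjugate matrices have the same characteristic polynomial -/
theorem charpoly_eq_of_conj {L A B : Matrix J J K} (hL : IsUnit L) (h : L * B = A * L) :
    A.charpoly = B.charpoly := by
  obtain ⟨u, rfl⟩ := hL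
  have e : B = (↑u⁻¹ : Matrix J J K) * A * (u : Matrix J J K) := by
    rw [mul_assoc, ← h, Units.inv_mul_cancel_left]
  rw [e, Matrix.coe_units_inv, Matrix.charpoly_units_conj']

/-- an element whose powers do not sum to zero has small order -/
theorem order_cases (hK : Fintype.card K = 2 ^ 3) (g : ↥(twistedD4 K 2))
    (hN : ∑ i ∈ Finset.range (orderOf g), en (rep hK g : Matrix J J K) ^ i ≠ 0) :
    orderOf g ∈ [1, 2, 3, 4, 6, 7, 9, 14] := by
  classical
  obtain ⟨a, m, hm, hn⟩ := Nat.exists_eq_two_pow_mul_odd (orderOf_pos g).ne'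
  set M : Matrix J J K := (rep hK g : Matrix J J K)
  set T := en M
  have hsym : ∀ k : ℕ, (∀ x, Qf ((M ^ k).mulVec x) = Qf x) ∧
      Rel (M ^ k) ((M ^ k).map (frobenius K 2))
        ((M ^ k).map ((frobenius K 2).comp (frobenius K 2))) := fun k => by
    have h := Subgroup.pow_mem _ (rep_sym hK g) k
    rw [← Units.val_pow_eq_pow_val]
    exact h
  have hordM : orderOf M = 2 ^ a * m := by
    rw [orderOf_units, orderOf_injective _ (rep_injective hK), hn]
  have hMn : M ^ (2 ^ a * m) = 1 := hordM ▸ pow_orderOf_eq_one M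
  set A := M ^ 2 ^ a
  set S := en A
  have hAm : A ^ m = 1 := by rw [← pow_mul, hMn]
  have hST : S = T ^ 2 ^ a := map_pow _ _ _
  have hS : S ^ m = 1 := by rw [show S ^ m = en (A ^ m) from (map_pow _ _ _).symm, hAm]; exact map_one _
  set P := fixProj S m
  have hcTS : Commute T S := by rw [hST]; exact Commute.self_pow T _
  have hcP : Commute T P := fixProj_comm hcTS
  have hPP : P * P = P := LinearMap.ext fun v => fixProj_idem hS hm v
  have hTP : T ^ 2 ^ a * P = P := by
    rw [← hST]; exact LinearMap.ext fun v => s_fixProj hS v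
  set w := finrank K ↥(LinearMap.range P)
  have qS : ∀ x, Qf (S x) = Qf x := fun x => by rw [en_apply]; exact (hsym _).1 x
  have pS : ∀ x y, polB (S x) (S y) = polB x y := fun x y => pol_preserved qS x y
  have hwk := LinearMap.finrank_range_add_finrank_ker P
  have h8 : finrank K (J → K) = 8 := by simp
  -- the odd part of the order
  have hwX : Even (finrank K (LinearMap.ker P)) := even_moved polB pol_nondeg pS hS hm
  have hw_even : Even w := by
    have h := hwX
    rw [Nat.even_iff] at h ⊢
    omega
  -- the sum of powers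
  have : CharP (Module.End K (J → K)) 2 :=
    charP_of_injective_algebraMap (algebraMap K (Module.End K (J → K))).injective 2
  set f := (T + 1) * P
  have hsum : ∑ i ∈ Finset.range (2 ^ a * m), T ^ i = P * (T + 1) ^ (2 ^ a - 1) := by
    rw [mul_comm, sum_range_mul, sum_pow_two_pow, ← hST]; rfl
  have hne : P * (T + 1) ^ (2 ^ a - 1) ≠ 0 := by rw [← hsum, ← hn]; exact hN
  have hf : ∀ j, 1 ≤ j → f ^ j = P * (T + 1) ^ j := by
    intro j hj
    have hc : Commute (T + 1) P := hcP.add_left (Commute.one_left P)
    rw [hc.mul_pow, IsIdempotentElem.pow_eq hPP (by omega), (hc.pow_left j).eq]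
  have hwpos : 0 < w := by
    refine Nat.pos_of_ne_zero fun h0 => hne ?_
    have : P = 0 := LinearMap.range_eq_bot.1 (Submodule.finrank_eq_zero.1 h0)
    rw [this, zero_mul]
  have hfnil : f ^ 2 ^ a = 0 := by
    rw [hf _ Nat.one_le_two_pow, add_pow_char_pow_of_commute 2 a (Commute.one_right T), one_pow,
      mul_add, mul_one, ← (hcP.pow_left _).eq, hTP]
    exact LinearMap.ext fun v => by
      rw [LinearMap.add_apply, LinearMap.zero_apply]
      funext i
      exact CharTwo.add_self_eq_zero _
  set r := finrank K ↥(LinearMap.range f)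
  have hrange : LinearMap.range f ≤ LinearMap.range P := by
    rintro _ ⟨v, rfl⟩
    exact ⟨(T + 1) v, LinearMap.congr_fun (hcP.add_left (Commute.one_left P)).eq.symm v⟩
  have hrw : r < w := by
    refine lt_of_le_of_ne (Submodule.finrank_mono hrange) fun e => ?_
    have heq := Submodule.eq_of_le_of_finrank_eq hrange e
    have hstep : ∀ j, LinearMap.range (f ^ (j + 1)) = LinearMap.range P := by
      intro j
      induction j with
      | zero => rw [pow_one, heq]
      | succ j ih =>
        rw [pow_succ', Module.End.mul_eq_comp, LinearMap.range_comp, ih]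
        refine le_antisymm (Submodule.map_le_iff_le_comap.2 fun v _ =>
          hrange (LinearMap.mem_range_self f v)) ?_
        intro x hx
        rw [← heq] at hx
        obtain ⟨z, rfl⟩ := hx
        refine ⟨P z, LinearMap.mem_range_self P z, ?_⟩
        show ((T + 1) * P) (P z) = ((T + 1) * P) z
        rw [Module.End.mul_apply, ← Module.End.mul_apply P P, hPP]
        rfl
    have := hstep (2 ^ a - 1)
    rw [Nat.sub_add_cancel Nat.one_le_two_pow, hfnil, LinearMap.range_zero] at this
    rw [show w = finrank K ↥(⊥ : Submodule K (J → K)) by rw [this], finrank_bot] at hwpos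
    omega
  -- the rank on the fixed space is even
  have hr_even : Even r := by
    obtain ⟨k, hk1, hk2⟩ := Nat.chineseRemainder (Nat.Coprime.pow_left a (Nat.coprime_two_left.2 hm)) 1 0
    have hmk : m ∣ k := (Nat.modEq_zero_iff_dvd).1 hk2
    have hu : (g ^ k) ^ 2 ^ a = 1 := by
      obtain ⟨c, rfl⟩ := hmk
      rw [← pow_mul, mul_comm, ← mul_assoc, pow_mul, ← hn, pow_orderOf_eq_one, one_pow]
    have he := even_rank_two_element hK hu
    rw [map_pow, Units.val_pow_eq_pow_val] at he
    set U := T ^ k
    have hU : en (M ^ k) = U := map_pow _ _ _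
    rw [show Matrix.toLinAlgEquiv' (M ^ k) = U from hU] at he
    have hUP : U * P = T * P := by
      have hpow : ∀ j, (T ^ 2 ^ a) ^ j * P = P := fun j => by
        induction j with
        | zero => simp
        | succ j ih => rw [pow_succ, mul_assoc, hTP, ih]
      have hk : (k ≡ 1 [MOD 2 ^ a]) := hk1
      by_cases hk0 : k = 0
      · subst hk0
        have h1 : 2 ^ a = 1 := Nat.dvd_one.1 ((Nat.modEq_zero_iff_dvd).1 hk.symm)
        have hT1 : T * P = P := by rw [h1, pow_one] at hTP; exact hTP
        simp [U, hT1]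
      · obtain ⟨c, hc⟩ := (Nat.modEq_iff_dvd' (Nat.one_le_iff_ne_zero.2 hk0)).1 hk.symm
        have hk' : k = 1 + 2 ^ a * c := by omega
        simp only [U]
        rw [hk', pow_add, pow_one, pow_mul, mul_assoc, hpow]
    have hUf : (U + 1) * P = f := by
      rw [add_mul, hUP, one_mul]
      simp only [f, add_mul, one_mul]
    have hUS : Commute U S := hcTS.pow_left k
    have hgk : M ^ k * M ^ (2 ^ a * m * k - k) = 1 := by
      rw [← pow_add, Nat.add_sub_cancel' (Nat.le_mul_of_pos_left k (Nat.mul_pos (Nat.two_pow_pos a) hm.pos)), pow_mul, hMn,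
        one_pow]
    have hu1 : U * en (M ^ (2 ^ a * m * k - k)) = 1 := by
      rw [← hU, ← map_mul, hgk]; exact map_one _
    have hu2 : en (M ^ (2 ^ a * m * k - k)) * U = 1 := by
      rw [← hU, ← map_mul, (Commute.pow_pow_self M _ _).eq, hgk]; exact map_one _
    have hX := even_moved_image polB pol_nondeg pS hS hm U _ hu2 hu1 hUS
      fun x y => pol_preserved (fun z => by rw [← hU, en_apply]; exact (hsym k).1 z) x y
    have hsplit : LinearMap.range (U + 1) =
        LinearMap.range f ⊔ LinearMap.range ((U + 1) * (1 - P)) := by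
      refine le_antisymm ?_ (sup_le ?_ ?_)
      · rintro _ ⟨v, rfl⟩
        refine Submodule.mem_sup.2 ⟨_, LinearMap.mem_range_self f v, _,
          LinearMap.mem_range_self _ v, ?_⟩
        rw [← hUf, ← LinearMap.add_apply, ← mul_add, add_sub_cancel, mul_one]
      · rw [← hUf]; exact LinearMap.range_comp_le_range _ _
      · exact LinearMap.range_comp_le_range _ _
    have hdisj : LinearMap.range f ⊓ LinearMap.range ((U + 1) * (1 - P)) = ⊥ := by
      rw [eq_bot_iff]
      rintro x ⟨hx1, y, hy⟩
      obtain ⟨z, rfl⟩ := hrange hx1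
      rw [Submodule.mem_bot, ← LinearMap.congr_fun hPP z, Module.End.mul_apply, ← hy,
        ← Module.End.mul_apply P]
      have hc : Commute (U + 1) P := (hcP.pow_left k).add_left (Commute.one_left P)
      rw [← mul_assoc, ← hc.eq, mul_assoc, mul_sub, mul_one, hPP, sub_self, mul_zero]
      rfl
    have hdim := Submodule.finrank_sup_add_finrank_inf_eq (LinearMap.range f)
      (LinearMap.range ((U + 1) * (1 - P)))
    rw [← hsplit, hdisj, finrank_bot] at hdim
    have he' : Even (finrank K ↥(LinearMap.range (U + 1))) := he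
    have hX' : Even (finrank K ↥(LinearMap.range ((U + 1) * (1 - P)))) := hX
    rw [Nat.even_iff] at he' hX' ⊢
    have hdim' : finrank K ↥(LinearMap.range (U + 1)) + 0 =
        r + finrank K ↥(LinearMap.range ((U + 1) * (1 - P))) := hdim
    omega
  -- the twists and the possible odd parts
  have hmain : m = 1 ∨ (w ≤ 4 ∧ (m = 3 ∨ m = 7 ∨ (m = 9 ∧ w ≤ 2))) := by
    by_cases hm1 : m = 1
    · exact Or.inl hm1
    refine Or.inr ?_
    set f₁ := frobenius K 2
    set f₂ := (frobenius K 2).comp (frobenius K 2)
    have hmap : ∀ φ : K →+* K, en (A.map φ) ^ m = 1 := fun φ => by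
      rw [show en (A.map φ) ^ m = en ((A.map φ) ^ m) from (map_pow _ _ _).symm,
        show (A.map φ) ^ m = φ.mapMatrix A ^ m from rfl, ← map_pow, hAm, map_one]
      exact map_one _
    have hqmap : ∀ φ : K →+* K, ∀ x, Qf (en (A.map φ) x) = Qf x := fun φ x => by
      rw [en_apply]; exact qf_map φ (hsym _).1 x
    have hdimmap : ∀ φ : K →+* K, finrank K ↥(LinearMap.range (fixProj (en (A.map φ)) m)) = w := by
      intro φ
      rw [range_fixProj hm (hmap φ), finrank_fixed_map, ← range_fixProj hm hS]
    have hrel : ∀ x y, mu (en (A.map f₁) x) (en (A.map f₂) y) = S (mu x y) := fun x y => by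
      simp only [S, en_apply]; exact (hsym _).2 x y
    have hfixsym : ∀ φ : K →+* K, ∀ u v, pol (fixProj (en (A.map φ)) m u) v =
        pol u (fixProj (en (A.map φ)) m v) := fun φ u v =>
      fixProj_sym (B := polB) (hmap φ) (fun a b => pol_preserved (hqmap φ) a b) u v
    -- not everything is fixed
    have hw8 : w < 8 := by
      by_contra hge
      have htop : LinearMap.range P = ⊤ := Submodule.eq_top_of_finrank_eq (by rw [h8]; omega)
      have hS1 : S = 1 := LinearMap.ext fun v => by
        obtain ⟨z, rfl⟩ := LinearMap.range_eq_top.1 htop v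
        exact s_fixProj hS z
      have hA1 : A = 1 := Matrix.toLinAlgEquiv'.injective (hS1.trans (map_one _).symm)
      have := hordM ▸ orderOf_dvd_of_pow_eq_one hA1
      have := Nat.le_of_dvd (by positivity) this
      have := hm.pos
      nlinarith [Nat.two_pow_pos a, show 2 ≤ m by omega]
    obtain ⟨e, he, heQ⟩ : ∃ e, fixProj (en (A.map f₂)) m e = 0 ∧ Qf e ≠ 0 := by
      set P₂ := fixProj (en (A.map f₂)) m
      have hker : LinearMap.ker P₂ ≠ ⊥ := fun hb => by
        have h := LinearMap.finrank_range_add_finrank_ker P₂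
        rw [hb, finrank_bot, h8, hdimmap f₂] at h
        omega
      obtain ⟨z, hz, hz0⟩ := Submodule.exists_mem_ne_zero_of_ne_bot hker
      obtain ⟨x, hx, hxQ⟩ := exists_nonsing (P := 1 - P₂)
        (fun v => by
          simp only [LinearMap.sub_apply, Module.End.one_apply, map_sub, P₂,
            fixProj_idem (hmap f₂) hm]
          abel)
        (fun u v => by
          show pol (u - P₂ u) v = pol u (v - P₂ v)
          rw [← polB_apply, map_sub, LinearMap.sub_apply, polB_apply, polB_apply,
            ← polB_apply u (v - _), map_sub, polB_apply, polB_apply, hfixsym f₂ u v])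
        (a := z) (by simp [LinearMap.mem_ker.1 hz]) hz0
      exact ⟨x, by simpa using hx, hxQ⟩
    obtain ⟨r₀, hr0, hr1⟩ := exists_scalar hK
    have hsmall := fixed_small hrel hm hS (hmap f₁) (hmap f₂) qS (hqmap f₁) (hqmap f₂) hr0 hr1 he heQ
    rw [hdimmap f₁] at hsmall
    have hw4 : w ≤ 4 := by
      have h2 : w + w ≤ 8 := hsmall
      omega
    refine ⟨hw4, ?_⟩
    -- the characteristic polynomial is rational
    obtain ⟨z, hz, hz0⟩ : ∃ z, fixProj (en (A.map f₁)) m z = z ∧ z ≠ 0 := by
      have hne' : LinearMap.range (fixProj (en (A.map f₁)) m) ≠ ⊥ := fun hb => by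
        have := hdimmap f₁; rw [hb, finrank_bot] at this; omega
      obtain ⟨z, ⟨y, hy⟩, hz0⟩ := Submodule.exists_mem_ne_zero_of_ne_bot hne'
      exact ⟨z, hy ▸ fixProj_idem (hmap f₁) hm y, hz0⟩
    obtain ⟨x, hx, hxQ⟩ := exists_nonsing (fixProj_idem (hmap f₁) hm) (hfixsym f₁) hz hz0
    have hconj := conj_of_fixed hrel (x := x) (by
      conv_lhs => rw [← hx, s_fixProj (hmap f₁)]
      exact hx)
    set L : Matrix J J K := Matrix.toLinAlgEquiv'.symm (muB x)
    have hL : IsUnit L := ((Module.End.isUnit_iff _).2 (muB_left_bijective hxQ)).map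
      Matrix.toLinAlgEquiv'.symm
    have hLA : L * A.map f₂ = A * L := by
      apply Matrix.toLinAlgEquiv'.injective
      rw [map_mul, map_mul, AlgEquiv.apply_symm_apply]
      exact hconj
    have hchar : A.charpoly = (A.map f₂).charpoly := charpoly_eq_of_conj hL hLA
    rw [Matrix.charpoly_map] at hchar
    have hF : A.charpoly.map (frobenius K 2) = A.charpoly := by
      ext i
      rw [Polynomial.coeff_map, frobenius_def]
      have h4 := congrArg (fun p => Polynomial.coeff p i) hchar
      simp only [Polynomial.coeff_map, f₂, RingHom.comp_apply, frobenius_def] at h4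
      conv_lhs => rw [h4]
      rw [← pow_mul, ← pow_mul]
      exact pow_eight hK _
    let B : Matrix J J K := LinearMap.BilinForm.toMatrix' polB
    have hB : B.det ≠ 0 := by
      rw [← Matrix.separatingLeft_iff_det_ne_zero,
        LinearMap.BilinForm.separatingLeft_toMatrix'_iff]
      exact pol_nondeg
    have hinv : A.transpose * B * A = B := by
      have h := LinearMap.BilinForm.toMatrix'_comp polB S S
      rw [show polB.comp S S = polB from LinearMap.ext₂ pS] at h
      have hA : LinearMap.toMatrix' S = A := LinearMap.toMatrix'_toLin' A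
      rw [hA] at h
      exact h.symm
    have hord : orderOf A = m := by
      rw [orderOf_pow_of_dvd (by positivity) (by rw [hordM]; exact dvd_mul_right _ _), hordM,
        Nat.mul_div_cancel_left _ (Nat.two_pow_pos a)]
    have hdiv : m ∣ 2 ^ 12 * 51597 := by
      have hG := (TD4.summary (K := K) isPrimePow_two hK).2.2.2.1
      have h := orderOf_dvd_natCard g
      rw [hn, hG] at h
      exact (dvd_mul_left m (2 ^ a)).trans (h.trans (by norm_num))
    have heig : finrank K ↥(Module.End.eigenspace (Matrix.toLin' A) (1 : K)) = w := by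
      have h := range_fixProj hm hS
      show finrank K ↥(Module.End.eigenspace S (1 : K)) = w
      rw [← h]
    have h2w : 2 ≤ w := by rw [Nat.even_iff] at hw_even; omega
    rcases order_of_roots (by simp) A B hB hinv hF hm hord hdiv (by rw [heig]; exact h2w) with
      h | ⟨h9, h⟩
    · rcases (Nat.dvd_prime (by norm_num)).1 h with h | h <;> omega
    · rw [heig] at h
      have hle := Nat.le_of_dvd (by norm_num) h9
      rcases h with h | h
      · have h3 := Nat.le_of_dvd (by norm_num) h
        interval_cases m <;> omega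
      · interval_cases m <;> omega
  -- conclusion
  rw [hn]
  have hpow0 : ∀ j, r + 1 ≤ j → f ^ j = 0 := fun j hj =>
    pow_eq_zero_of_le hj (pow_rank_succ hfnil le_rfl)
  have hlow : 2 ^ a ≤ r + 1 ∨ a = 0 := by
    by_contra hcon
    push Not at hcon
    obtain ⟨h1, h2⟩ := hcon
    have h3 : 1 ≤ 2 ^ a - 1 := by
      have : 2 ≤ 2 ^ a := Nat.le_self_pow h2 2
      omega
    refine hne ?_
    rw [← hf _ h3]
    exact hpow0 _ (by omega)
  rw [Nat.even_iff] at hr_even hw_even
  have hw8' : w ≤ 8 := by omega
  rcases hlow with hlow | rfl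
  · have ha : a ≤ 3 := by
      by_contra h
      have : 2 ^ 4 ≤ 2 ^ a := Nat.pow_le_pow_right (by norm_num) (by omega)
      omega
    rcases hmain with rfl | ⟨hw4, rfl | rfl | ⟨rfl, hw2⟩⟩ <;> interval_cases a <;> simp at * <;> omega
  · rcases hmain with rfl | ⟨hw4, rfl | rfl | ⟨rfl, hw2⟩⟩ <;> simp

end CfsgLib.Lie.TD4Spec
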