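import Cfsg.Agent.Lib.Lie.Chev.Nat.Tables
import Mathlib.Algebra.CharP.Two

/-!
# Computation with eight-by-eight matrices over a field of eight elements

Elements are numbers below eight, read in the basis `1, α, α²` with `α³ = α + 1`.
-/

set_option autoImplicit false
set_option maxRecDepth 100000

namespace CfsgLib.Lie.TD4Spec.Model

open CfsgLib.Lie.NatRep

/-- an element -/
abbrev E : Type := Fin 8

/-- addition -/
def add (a b : E) : E :=
  (![![0, 1, 2, 3, 4, 5, 6, 7], ![1, 0, 3, 2, 5, 4, 7, 6], ![2, 3, 0, 1, 6, 7, 4, 5],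
    ![3, 2, 1, 0, 7, 6, 5, 4], ![4, 5, 6, 7, 0, 1, 2, 3], ![5, 4, 7, 6, 1, 0, 3, 2],
    ![6, 7, 4, 5, 2, 3, 0, 1], ![7, 6, 5, 4, 3, 2, 1, 0]] : Fin 8 → Fin 8 → Fin 8) a b

/-- multiplication -/
def mul (a b : E) : E :=
  (![![0, 0, 0, 0, 0, 0, 0, 0], ![0, 1, 2, 3, 4, 5, 6, 7], ![0, 2, 4, 6, 3, 1, 7, 5],
    ![0, 3, 6, 5, 7, 4, 1, 2], ![0, 4, 3, 7, 6, 2, 5, 1], ![0, 5, 1, 4, 2, 7, 3, 6],
    ![0, 6, 7, 1, 5, 3, 2, 4], ![0, 7, 5, 2, 1, 6, 4, 3]] : Fin 8 → Fin 8 → Fin 8) a b

/-- a position -/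
def pos : Fin 4 ⊕ Fin 4 → Fin 8 := fun i => finSumFinEquiv i

/-- the identity matrix -/
def idM : List E := List.ofFn fun k : Fin 64 => if k.val / 8 = k.val % 8 then 1 else 0

/-- an entry -/
def get (M : List E) (i j : Fin 8) : E := M.getD (8 * i.val + j.val) 0

/-- the product -/
def mm (A B : List E) : List E :=
  List.ofFn fun k : Fin 64 =>
    let i : Fin 8 := ⟨k.val / 8, by omega⟩
    let j : Fin 8 := ⟨k.val % 8, by omega⟩
    (List.finRange 8).foldr (fun l acc => add (mul (get A i l) (get B l j)) acc) 0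

/-- powers -/
def pw (A : List E) : ℕ → List E
  | 0 => idM
  | n + 1 => mm (pw A n) A

/-- the matrix of a root element -/
def rootM (r : ℕ) (t : E) : List E :=
  List.ofFn fun k : Fin 64 =>
    if k.val / 8 = k.val % 8 then 1
    else if (tabD4 r).any (fun e =>
      decide ((pos e.2.2.1).val = k.val / 8 ∧ (pos e.2.2.2).val = k.val % 8)) then t else 0

theorem rootM_chk : ∀ r : Fin 24, ∀ i j : Fin 4 ⊕ Fin 4,
    (i = j → ((tabD4 r.val).filter fun e => decide (e.2.2.1 = i ∧ e.2.2.2 = j)) = []) ∧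
    ((tabD4 r.val).filter fun e => decide (e.2.2.1 = i ∧ e.2.2.2 = j)).length ≤ 1 ∧
    ((tabD4 r.val).all fun e => decide (e.1 = 1 ∧ (e.2.1 = 1 ∨ e.2.1 = -1))) = true ∧
    ((tabD4 r.val).any (fun e => decide (e.2.2.1 = i ∧ e.2.2.2 = j)) =
      (tabD4 r.val).any (fun e => decide ((pos e.2.2.1).val = (pos i).val ∧
        (pos e.2.2.2).val = (pos j).val))) := by decide +kernel

variable {K : Type*} [Field K] [CharP K 2]

/-- the value of an element -/
def ev (α : K) (a : E) : K :=
  (![0, 1, α, α + 1, α ^ 2, α ^ 2 + 1, α ^ 2 + α, α ^ 2 + α + 1] : Fin 8 → K) a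

variable {α : K}

theorem ev_add (a b : E) : ev α (add a b) = ev α a + ev α b := by
  have h2 := CharTwo.two_eq_zero (R := K)
  fin_cases a <;> fin_cases b <;> simp [ev, add] <;> grind

theorem ev_mul (hα : α ^ 3 = α + 1) (a b : E) : ev α (mul a b) = ev α a * ev α b := by
  have h2 := CharTwo.two_eq_zero (R := K)
  fin_cases a <;> fin_cases b <;> simp [ev, mul] <;> grind

theorem ev_eq_zero (hα : α ^ 3 = α + 1) {a : E} (h : ev α a = 0) : a = 0 := by
  by_contra hne
  have hinv : ∀ c : E, c ≠ 0 → ∃ b, mul c b = 1 := by decide +kernel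
  obtain ⟨b, hb⟩ := hinv a hne
  have e := ev_mul hα a b
  rw [hb, h, zero_mul] at e
  exact one_ne_zero (α := K) e

/-- the value of a matrix -/
def evM (α : K) (M : List E) : Matrix (Fin 4 ⊕ Fin 4) (Fin 4 ⊕ Fin 4) K :=
  Matrix.of fun i j => ev α (get M (pos i) (pos j))

theorem get_ofFn (f : Fin 64 → E) (i j : Fin 8) :
    get (List.ofFn f) i j = f ⟨8 * i.val + j.val, by omega⟩ := by
  simp only [get, List.getD_eq_getElem?_getD, List.getElem?_ofFn,
    dif_pos (show 8 * i.val + j.val < 64 by omega), Option.getD_some]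

theorem evM_one : evM α idM = 1 := by
  ext i j
  have h : (8 * (pos i).val + (pos j).val) / 8 = (8 * (pos i).val + (pos j).val) % 8 ↔ i = j := by
    refine ⟨fun h => finSumFinEquiv.injective (Fin.ext ?_), fun h => by subst h; omega⟩
    have := (pos i).isLt; have := (pos j).isLt
    show (pos i).val = (pos j).val
    omega
  simp only [evM, idM, Matrix.of_apply, get_ofFn]
  by_cases hij : i = j
  · rw [if_pos (h.2 hij), hij, Matrix.one_apply_eq]; rfl
  · rw [if_neg (mt h.1 hij), Matrix.one_apply_ne hij]; rfl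

theorem evM_mm (hα : α ^ 3 = α + 1) (A B : List E) : evM α (mm A B) = evM α A * evM α B := by
  ext i j
  rw [Matrix.mul_apply, ← Equiv.sum_comp finSumFinEquiv.symm]
  simp only [evM, mm, Matrix.of_apply, get_ofFn, pos, Equiv.apply_symm_apply]
  have hi : (8 * (finSumFinEquiv i).val + (finSumFinEquiv j).val) / 8 = (finSumFinEquiv i).val := by
    omega
  have hj : (8 * (finSumFinEquiv i).val + (finSumFinEquiv j).val) % 8 = (finSumFinEquiv j).val := by
    omega
  simp only [hi, hj, Fin.eta]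
  rw [← List.sum_ofFn, List.ofFn_eq_map]
  induction List.finRange 8 with
  | nil => simp [ev]
  | cons l L ih => rw [List.foldr_cons, List.map_cons, List.sum_cons, ev_add, ev_mul hα, ih]

theorem evM_pw (hα : α ^ 3 = α + 1) (A : List E) (n : ℕ) : evM α (pw A n) = evM α A ^ n := by
  induction n with
  | zero => rw [pow_zero]; exact evM_one
  | succ n ih => rw [pow_succ, ← ih]; exact evM_mm hα _ _

theorem evM_rootM (r : Fin 24) (t : E) : evM α (rootM r.val t) = nxL (tabD4 r.val) (ev α t) := by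
  ext i j
  obtain ⟨hdiag, hlen, hall, hany⟩ := rootM_chk r i j
  have hi : (8 * (pos i).val + (pos j).val) / 8 = (pos i).val := by
    have := (pos j).isLt; omega
  have hj : (8 * (pos i).val + (pos j).val) % 8 = (pos j).val := by
    have := (pos j).isLt; omega
  simp only [evM, rootM, Matrix.of_apply, get_ofFn, hi, hj]
  rw [← hany, nxL, Matrix.add_apply]
  have hsum : ∀ L : Ents (Fin 4 ⊕ Fin 4),
      (L.map fun e => Matrix.single e.2.2.1 e.2.2.2 ((e.2.1 : K) * ev α t ^ e.1)).sum i j =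
      ((L.filter fun e => decide (e.2.2.1 = i ∧ e.2.2.2 = j)).map
        fun e => (e.2.1 : K) * ev α t ^ e.1).sum := by
    intro L
    induction L with
    | nil => simp
    | cons e L ih =>
      rw [List.map_cons, List.sum_cons, Matrix.add_apply, ih, Matrix.single_apply]
      by_cases he : e.2.2.1 = i ∧ e.2.2.2 = j
      · rw [if_pos he, List.filter_cons_of_pos (by simpa using he), List.map_cons, List.sum_cons]
      · rw [if_neg he, List.filter_cons_of_neg (by simpa using he), zero_add]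
  rw [hsum]
  by_cases hij : i = j
  · rw [hdiag hij, hij, if_pos rfl]
    simp [ev]
  have hne : (pos i).val ≠ (pos j).val := fun e => hij (finSumFinEquiv.injective (Fin.ext e))
  rw [if_neg hne, Matrix.one_apply_ne hij, zero_add]
  rw [List.all_eq_true] at hall
  simp only [decide_eq_true_eq] at hall
  generalize hL : ((tabD4 r.val).filter fun e => decide (e.2.2.1 = i ∧ e.2.2.2 = j)) = L at hlen ⊢
  rcases L with - | ⟨e, L⟩
  · rw [if_neg]
    · simp [ev]
    · rw [List.any_eq_true]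
      rintro ⟨e, he, h⟩
      have : e ∈ (tabD4 r.val).filter fun e => decide (e.2.2.1 = i ∧ e.2.2.2 = j) :=
        List.mem_filter.2 ⟨he, h⟩
      rw [hL] at this
      exact (List.not_mem_nil this)
  · obtain rfl : L = [] := by simpa using hlen
    have he : e ∈ (tabD4 r.val).filter fun e => decide (e.2.2.1 = i ∧ e.2.2.2 = j) := by
      rw [hL]; simp
    obtain ⟨he1, he2⟩ := List.mem_filter.1 he
    rw [if_pos (List.any_eq_true.2 ⟨e, he1, he2⟩)]
    obtain ⟨h1, h2⟩ := hall e he1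
    rcases h2 with h2 | h2 <;> simp [h1, h2, CharTwo.neg_eq]

theorem order_of_chk (hα : α ^ 3 = α + 1) (A : List E) (n : ℕ) (hn : 0 < n)
    (h1 : pw A n = idM)
    (h2 : ∀ d ∈ n.divisors, d < n → ∃ k : Fin 64, (pw A d).getD k.val 0 ≠ idM.getD k.val 0) :
    orderOf (evM α A) = n := by
  rw [orderOf_eq_iff hn]
  refine ⟨by rw [← evM_pw hα, h1, evM_one], fun m hm hm0 hpow => ?_⟩
  have hd : Nat.gcd m n ∈ n.divisors :=
    Nat.mem_divisors.2 ⟨Nat.gcd_dvd_right m n, by omega⟩
  obtain ⟨k, hk⟩ := h2 _ hd ((Nat.le_of_dvd hm0 (Nat.gcd_dvd_left m n)).trans_lt hm)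
  have e : evM α (pw A (Nat.gcd m n)) = evM α idM := by
    rw [evM_pw hα, evM_one]
    exact pow_gcd_eq_one.2 ⟨hpow, by rw [← evM_pw hα, h1, evM_one]⟩
  have e' := congrFun (congrFun e (finSumFinEquiv.symm ⟨k.val / 8, by omega⟩))
    (finSumFinEquiv.symm ⟨k.val % 8, by omega⟩)
  simp only [evM, Matrix.of_apply, pos, Equiv.apply_symm_apply, get, Nat.div_add_mod] at e'
  refine hk ?_
  have e'' : ev α (add ((pw A (Nat.gcd m n)).getD k.val 0) (idM.getD k.val 0)) = 0 := by
    rw [ev_add, e', CharTwo.add_self_eq_zero]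
  have key : ∀ a b : E, add a b = 0 → a = b := by decide +kernel
  exact key _ _ (ev_eq_zero hα e'')

end CfsgLib.Lie.TD4Spec.Model
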