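import Cfsg.Agent.Lib.Lie.TD4Spec.Cases
import Cfsg.Agent.Lib.Lie.TD4Spec.Model

/-!
# Arbitrarily large groups with the element orders of ³D₄(2)

The semidirect products of powers of the eight-dimensional module by the group.
-/

set_option autoImplicit false
set_option maxRecDepth 100000
set_option maxHeartbeats 1000000

namespace CfsgLib.Lie.TD4Spec

open Cfsg.Lie CfsgLib.Lie.Chev CfsgLib.Lie.NatRep TD4 CfsgLib.Lie.AltSection
open scoped MatrixGroups

variable {K : Type*} [Field K] [Fintype K] [CharP K 2]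

theorem exists_alpha (hK : Fintype.card K = 2 ^ 3) : ∃ α : K, α ^ 3 = α + 1 := by
  obtain ⟨r, hr0, hr1⟩ := exists_scalar hK
  have h7 : r ^ 7 = 1 := by
    have h := pow_eight hK r
    exact mul_left_cancel₀ hr0 (by rw [← pow_succ', h, mul_one])
  have h2 := CharTwo.two_eq_zero (R := K)
  have : (r ^ 3 + r + 1) * (r ^ 3 + r ^ 2 + 1) = 0 := by
    have e : (r - 1) * ((r ^ 3 + r + 1) * (r ^ 3 + r ^ 2 + 1)) = 0 := by
      linear_combination h7 + (r ^ 4 - r ^ 3) * h2
    exact (mul_eq_zero.1 e).resolve_left (sub_ne_zero.2 hr1)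
  rcases mul_eq_zero.1 this with h | h
  · exact ⟨r, by linear_combination h - (r + 1) * h2⟩
  · refine ⟨r⁻¹, ?_⟩
    field_simp
    linear_combination h - (r ^ 2 + r ^ 3) * h2

/-- a root element from the model -/
theorem rootM_eq (α : K) (r : ℕ) (hr : r < chevD4.nroots) (t : Model.E) :
    (D4Nat.rho (C.G.xc ⟨r, hr⟩ (Model.ev α t)) : Matrix J J K) = Model.evM α (Model.rootM r t) := by
  rw [D4Nat.rho_xc]
  exact (Model.evM_rootM ⟨r, hr.trans_le (by decide +kernel)⟩ t).symm

/-- the model word -/
def wordM (t : Option Model.E) : List Model.E :=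
  match t with
  | none => Model.mm (Model.rootM 14 1)
      (Model.mm (Model.mm (Model.rootM 18 1) (Model.rootM 13 1)) (Model.rootM 12 1))
  | some s => Model.mm
      (Model.mm (Model.rootM 14 1)
        (Model.mm (Model.mm (Model.rootM 18 1) (Model.rootM 13 1)) (Model.rootM 12 1)))
      (Model.mm (Model.mm (Model.rootM 5 s) (Model.rootM 10 (Model.mul s s)))
        (Model.rootM 11 (Model.mul (Model.mul s s) (Model.mul s s))))

theorem chk_eight : Model.pw (wordM none) 8 = Model.idM ∧ ∀ d ∈ (8 : ℕ).divisors, d < 8 →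
    ∃ k : Fin 64, (Model.pw (wordM none) d).getD k.val 0 ≠ Model.idM.getD k.val 0 := by
  decide +kernel

theorem chk_twelve : Model.pw (wordM (some 1)) 12 = Model.idM ∧ ∀ d ∈ (12 : ℕ).divisors, d < 12 →
    ∃ k : Fin 64, (Model.pw (wordM (some 1)) d).getD k.val 0 ≠ Model.idM.getD k.val 0 := by
  decide +kernel

theorem chk_eighteen : Model.pw (wordM (some 2)) 18 = Model.idM ∧ ∀ d ∈ (18 : ℕ).divisors, d < 18 →
    ∃ k : Fin 64, (Model.pw (wordM (some 2)) d).getD k.val 0 ≠ Model.idM.getD k.val 0 := by
  decide +kernel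

theorem chk_twentyeight : Model.pw (wordM (some 3)) 28 = Model.idM ∧
    ∀ d ∈ (28 : ℕ).divisors, d < 28 →
    ∃ k : Fin 64, (Model.pw (wordM (some 3)) d).getD k.val 0 ≠ Model.idM.getD k.val 0 := by
  decide +kernel

theorem exists_word (hK : Fintype.card K = 2 ^ 3) {α : K} (hα : α ^ 3 = α + 1)
    (t : Option Model.E) :
    ∃ g : ↥(twistedD4 K 2), (rep hK g : Matrix J J K) = Model.evM α (wordM t) := by
  obtain ⟨θ, hθ⟩ := Frob.exists_powEquiv (K := K) isPrimePow_two hK
  have hone : Model.ev α 1 = 1 := rfl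
  have e0 : ∀ z : K, θ z = z * z := fun z => by rw [hθ, pow_two]
  have hsq : ∀ s : Model.E, θ (Model.ev α s) = Model.ev α (Model.mul s s) ∧
      θ (θ (Model.ev α s)) = Model.ev α (Model.mul (Model.mul s s) (Model.mul s s)) := fun s => by
    simp only [e0, Model.ev_mul hα, and_self]
  let ga : ↥(twistedD4 K 2) := ⟨_, (single_mem θ hθ (map_one θ)).1⟩
  let gc : ↥(twistedD4 K 2) := ⟨_, (triple_mem θ hθ).1 (1 : K)⟩
  have ha : (rep hK ga : Matrix J J K) = Model.evM α (Model.rootM 14 1) := by
    rw [rep_of_theta hK (gt := C.G.xc (rt 14) 1) (C.theta_xc _ _), ← hone]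
    exact rootM_eq α 14 _ 1
  have hc : (rep hK gc : Matrix J J K) = Model.evM α
      (Model.mm (Model.mm (Model.rootM 18 1) (Model.rootM 13 1)) (Model.rootM 12 1)) := by
    rw [rep_of_theta hK (gt := C.G.xc (rt 18) 1 * C.G.xc (rt 13) 1 * C.G.xc (rt 12) 1)
      (by simp [gc, x3, C.theta_xc]), map_mul, map_mul, Units.val_mul, Units.val_mul,
      Model.evM_mm hα, Model.evM_mm hα]
    conv_lhs => rw [← hone]
    rw [show rt 18 = ⟨18, by decide +kernel⟩ from rfl, show rt 13 = ⟨13, by decide +kernel⟩ from rfl,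
      show rt 12 = ⟨12, by decide +kernel⟩ from rfl, rootM_eq, rootM_eq, rootM_eq]
  cases t with
  | none =>
    refine ⟨ga * gc, ?_⟩
    rw [map_mul, Units.val_mul, ha, hc, wordM, Model.evM_mm hα (Model.rootM 14 1)]
  | some s =>
    let gd : ↥(twistedD4 K 2) := ⟨_, (triple_mem θ hθ).2 (Model.ev α s)⟩
    have hd : (rep hK gd : Matrix J J K) = Model.evM α
        (Model.mm (Model.mm (Model.rootM 5 s) (Model.rootM 10 (Model.mul s s)))
          (Model.rootM 11 (Model.mul (Model.mul s s) (Model.mul s s)))) := by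
      rw [rep_of_theta hK (gt := C.G.xc (rt 5) (Model.ev α s) *
          C.G.xc (rt 10) (θ (Model.ev α s)) * C.G.xc (rt 11) (θ (θ (Model.ev α s))))
        (by simp [gd, x3, C.theta_xc]), (hsq s).1, map_mul, map_mul, Units.val_mul, Units.val_mul,
        Model.evM_mm hα, Model.evM_mm hα]
      rw [show θ (Model.ev α (Model.mul s s)) =
          Model.ev α (Model.mul (Model.mul s s) (Model.mul s s)) by rw [← (hsq s).1, (hsq s).2],
        show rt 5 = ⟨5, by decide +kernel⟩ from rfl, show rt 10 = ⟨10, by decide +kernel⟩ from rfl,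
        show rt 11 = ⟨11, by decide +kernel⟩ from rfl, rootM_eq, rootM_eq, rootM_eq]
    refine ⟨ga * gc * gd, ?_⟩
    rw [map_mul, map_mul, Units.val_mul, Units.val_mul, ha, hc, hd]
    simp only [wordM, Model.evM_mm hα, mul_assoc]

theorem exists_order (hK : Fintype.card K = 2 ^ 3) {n : ℕ}
    (hn : n ∈ [2, 4, 6, 8, 12, 14, 18, 28]) : ∃ g : ↥(twistedD4 K 2), orderOf g = n := by
  obtain ⟨α, hα⟩ := exists_alpha hK
  have base : ∀ (t : Option Model.E) (N : ℕ), 0 < N → Model.pw (wordM t) N = Model.idM →
      (∀ d ∈ N.divisors, d < N →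
        ∃ k : Fin 64, (Model.pw (wordM t) d).getD k.val 0 ≠ Model.idM.getD k.val 0) →
      ∀ n, n ∣ N → 0 < n → ∃ g : ↥(twistedD4 K 2), orderOf g = n := by
    intro t N hN h1 h2 n hd hn0
    obtain ⟨g, hg⟩ := exists_word hK hα t
    have hord : orderOf g = N := by
      rw [← orderOf_injective _ (rep_injective hK), ← orderOf_units, hg]
      exact Model.order_of_chk hα _ N hN h1 h2
    obtain ⟨c, rfl⟩ := hd
    refine ⟨g ^ c, ?_⟩
    have hc : 0 < c := Nat.pos_of_ne_zero fun e => by simp [e] at hN
    rw [orderOf_pow_of_dvd hc.ne' (by rw [hord]; exact dvd_mul_left c n), hord,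
      Nat.mul_div_cancel _ hc]
  simp only [List.mem_cons, List.not_mem_nil, or_false] at hn
  rcases hn with rfl | rfl | rfl | rfl | rfl | rfl | rfl | rfl
  · exact base none 8 (by norm_num) chk_eight.1 chk_eight.2 2 (by norm_num) (by norm_num)
  · exact base none 8 (by norm_num) chk_eight.1 chk_eight.2 4 (by norm_num) (by norm_num)
  · exact base (some 1) 12 (by norm_num) chk_twelve.1 chk_twelve.2 6 (by norm_num) (by norm_num)
  · exact base none 8 (by norm_num) chk_eight.1 chk_eight.2 8 dvd_rfl (by norm_num)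
  · exact base (some 1) 12 (by norm_num) chk_twelve.1 chk_twelve.2 12 dvd_rfl (by norm_num)
  · exact base (some 3) 28 (by norm_num) chk_twentyeight.1 chk_twentyeight.2 14 (by norm_num)
      (by norm_num)
  · exact base (some 2) 18 (by norm_num) chk_eighteen.1 chk_eighteen.2 18 dvd_rfl (by norm_num)
  · exact base (some 3) 28 (by norm_num) chk_twentyeight.1 chk_twentyeight.2 28 dvd_rfl (by norm_num)

/-- a carrier of given finite size -/
structure Car (n : ℕ) : Type where
  /-- the number -/
  val : Fin n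

/-- the numbering of the carrier -/
def carEquiv (n : ℕ) : Car n ≃ Fin n where
  toFun := Car.val
  invFun := Car.mk
  left_inv := fun _ => rfl
  right_inv := fun _ => rfl

/-- the action on the power of the module -/
noncomputable def act (hK : Fintype.card K = 2 ^ 3) (k : ℕ) :
    ↥(twistedD4 K 2) →* MulAut (Multiplicative (Fin k → J → K)) where
  toFun g :=
    { toFun := fun v => Multiplicative.ofAdd fun i =>
        (rep hK g : Matrix J J K).mulVec (v.toAdd i)
      invFun := fun v => Multiplicative.ofAdd fun i =>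
        ((rep hK g)⁻¹ : GL J K).val.mulVec (v.toAdd i)
      left_inv := fun v => Multiplicative.toAdd.injective (funext fun i => by
        show ((rep hK g)⁻¹ : GL J K).val.mulVec ((rep hK g : Matrix J J K).mulVec (v.toAdd i)) = _
        rw [Matrix.mulVec_mulVec, Units.inv_mul, Matrix.one_mulVec])
      right_inv := fun v => Multiplicative.toAdd.injective (funext fun i => by
        show (rep hK g : Matrix J J K).mulVec (((rep hK g)⁻¹ : GL J K).val.mulVec (v.toAdd i)) = _
        rw [Matrix.mulVec_mulVec, Units.mul_inv, Matrix.one_mulVec])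
      map_mul' := fun v w => Multiplicative.toAdd.injective (funext fun i => by
        show (rep hK g : Matrix J J K).mulVec (v.toAdd i + w.toAdd i) = _
        rw [Matrix.mulVec_add]; rfl) }
  map_one' := MulEquiv.ext fun v => Multiplicative.toAdd.injective (funext fun i => by
    show (rep hK 1 : Matrix J J K).mulVec (v.toAdd i) = _
    rw [map_one, Units.val_one, Matrix.one_mulVec]; rfl)
  map_mul' g h := MulEquiv.ext fun v => Multiplicative.toAdd.injective (funext fun i => by
    show (rep hK (g * h) : Matrix J J K).mulVec (v.toAdd i) =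
      (rep hK g : Matrix J J K).mulVec ((rep hK h : Matrix J J K).mulVec (v.toAdd i))
    rw [map_mul, Units.val_mul, Matrix.mulVec_mulVec])

theorem pow_left_eq (hK : Fintype.card K = 2 ^ 3) {k : ℕ}
    (x : Multiplicative (Fin k → J → K) ⋊[act hK k] ↥(twistedD4 K 2)) (n : ℕ) (i : Fin k) :
    (x ^ n).left.toAdd i =
      (∑ j ∈ Finset.range n, en (rep hK x.right : Matrix J J K) ^ j) (x.left.toAdd i) := by
  induction n with
  | zero => simp
  | succ n ih =>
    have hr : (x ^ n).right = x.right ^ n := map_pow SemidirectProduct.rightHom x n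
    rw [pow_succ, SemidirectProduct.mul_left, toAdd_mul, Pi.add_apply, ih, Finset.sum_range_succ,
      LinearMap.add_apply, hr]
    congr 1
    show (rep hK (x.right ^ n) : Matrix J J K).mulVec _ = _
    rw [map_pow, Units.val_pow_eq_pow_val, ← map_pow, en_apply]

/-- the orders of the semidirect product -/
theorem order_semidirect (hK : Fintype.card K = 2 ^ 3) {k : ℕ}
    (x : Multiplicative (Fin k → J → K) ⋊[act hK k] ↥(twistedD4 K 2)) :
    ∃ g : ↥(twistedD4 K 2), orderOf g = orderOf x := by
  have : Finite (Multiplicative (Fin k → J → K) ⋊[act hK k] ↥(twistedD4 K 2)) :=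
    Finite.of_equiv _ SemidirectProduct.equivProd.symm
  set n := orderOf x.right
  have hdvd : n ∣ orderOf x := orderOf_map_dvd SemidirectProduct.rightHom x
  have hright : (x ^ n).right = 1 :=
    (map_pow SemidirectProduct.rightHom x n).trans (pow_orderOf_eq_one _)
  by_cases h1 : x ^ n = 1
  · exact ⟨x.right, Nat.dvd_antisymm hdvd (orderOf_dvd_of_pow_eq_one h1)⟩
  have h2 : (x ^ n) ^ 2 = 1 := by
    refine SemidirectProduct.ext ?_ ?_
    · rw [pow_two, SemidirectProduct.mul_left, hright, map_one, MulAut.one_apply,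
        SemidirectProduct.one_left]
      refine Multiplicative.toAdd.injective (funext fun i => funext fun j => ?_)
      exact CharTwo.add_self_eq_zero _
    · rw [pow_two, SemidirectProduct.mul_right, hright, one_mul, SemidirectProduct.one_right]
  have hx : orderOf x = 2 * n := by
    have hpos : 0 < orderOf x := orderOf_pos x
    rw [← pow_mul] at h2
    obtain ⟨c, hc⟩ := hdvd
    have h3 : orderOf x ∣ n * 2 := orderOf_dvd_of_pow_eq_one h2
    rw [hc] at h3 hpos
    have hn0 : 0 < n := orderOf_pos _
    rcases (Nat.dvd_prime Nat.prime_two).1 ((Nat.mul_dvd_mul_iff_left hn0).1 h3) with e | e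
    · rw [e, mul_one] at hc
      exact absurd (by rw [← hc]; exact pow_orderOf_eq_one x) h1
    · rw [hc, e, mul_comm]
  have hne : ∑ j ∈ Finset.range n, en (rep hK x.right : Matrix J J K) ^ j ≠ 0 := fun h => h1 (by
    refine SemidirectProduct.ext (Multiplicative.toAdd.injective (funext fun i => ?_)) hright
    rw [pow_left_eq, h]
    rfl)
  have hcases := order_cases hK x.right hne
  rw [hx]
  refine exists_order hK ?_
  simp only [List.mem_cons, List.not_mem_nil, or_false] at hcases ⊢
  omega

theorem unboundedly_many (hK : Fintype.card K = 2 ^ 3) (N : ℕ) :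
    ∃ (H : Type) (_ : Group H) (_ : Fintype H), N < Fintype.card H ∧
      Set.range (orderOf : H → ℕ) = Set.range (orderOf : ↥(twistedD4 K 2) → ℕ) := by
  let X := Multiplicative (Fin (N + 1) → J → K) ⋊[act hK (N + 1)] ↥(twistedD4 K 2)
  haveI : Finite X := Finite.of_equiv _ SemidirectProduct.equivProd.symm
  let e := (carEquiv (Nat.card X)).trans (Finite.equivFin X).symm
  letI : Group (Car (Nat.card X)) := e.group
  letI : Fintype (Car (Nat.card X)) := Fintype.ofEquiv _ (carEquiv (Nat.card X)).symm
  refine ⟨Car (Nat.card X), inferInstance, inferInstance, ?_, ?_⟩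
  · rw [Fintype.card_congr (carEquiv (Nat.card X)), Fintype.card_fin, Nat.card_congr SemidirectProduct.equivProd, Nat.card_prod,
      Nat.card_congr Multiplicative.toAdd, Nat.card_fun, Nat.card_fin, Nat.card_fun,
      Nat.card_eq_fintype_card (α := J), Nat.card_eq_fintype_card (α := K), hK]
    refine lt_of_lt_of_le ((Nat.lt_succ_self N).trans ?_) (Nat.le_mul_of_pos_right _ Nat.card_pos)
    exact Nat.lt_pow_self (Nat.one_lt_pow (by simp) (by norm_num))
  · ext n
    constructor
    · rintro ⟨h, rfl⟩
      obtain ⟨g, hg⟩ := order_semidirect hK (e h)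
      exact ⟨g, hg.trans (orderOf_injective e.mulEquiv.toMonoidHom e.mulEquiv.injective h)⟩
    · rintro ⟨g, rfl⟩
      refine ⟨e.symm (SemidirectProduct.inr g), ?_⟩
      rw [← orderOf_injective e.mulEquiv.toMonoidHom e.mulEquiv.injective]
      show orderOf (e (e.symm (SemidirectProduct.inr g))) = _
      rw [Equiv.apply_symm_apply]
      exact orderOf_injective SemidirectProduct.inr SemidirectProduct.inr_injective g

end CfsgLib.Lie.TD4Spec
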