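import Cfsg.Agent.Lib.Lie.TD4Spec.Tensor
import Cfsg.Agent.Lib.Lie.AltSection.D4Key
import Cfsg.Agent.Lib.Lie.Chev.Tw.D4Simple
import Cfsg.Agent.Lib.Char.SpClass.Parity

/-!
# The eight-dimensional representation of ³D₄(2)

It is faithful, preserves the quadratic form and intertwines the product with its two Galois
twists; the rank of `g + 1` is even for every element `g` of two-power order.
-/

set_option autoImplicit false
set_option maxRecDepth 100000
set_option maxHeartbeats 1000000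

namespace CfsgLib.Lie.TD4Spec

open Cfsg.Lie CfsgLib.Lie.Chev CfsgLib.Lie.NatRep TD4 CfsgLib.Lie.AltSection
open scoped Matrix MatrixGroups

variable {K : Type*} [Field K] [Fintype K]

theorem isPrimePow_two : IsPrimePow 2 := Nat.prime_two.isPrimePow

theorem charTwo_of (hK : Fintype.card K = 2 ^ 3) : CharP K 2 := by
  have e : ((2 ^ 3 : ℕ) : K) = 0 := by rw [← hK]; exact FiniteField.cast_card_eq_zero K
  rw [Nat.cast_pow] at e
  exact CharTwo.of_one_ne_zero_of_two_eq_zero one_ne_zero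
    ((pow_eq_zero_iff (by norm_num : (3 : ℕ) ≠ 0)).1 (by exact_mod_cast e))

section

variable [CharP K 2]

/-- the matrices preserving the form and intertwining the product with their twists -/
def Sym (K : Type*) [Field K] [CharP K 2] : Subgroup (GL J K) where
  carrier := {g | (∀ x, Qf ((g : Matrix J J K).mulVec x) = Qf x) ∧
    Rel (g : Matrix J J K) ((g : Matrix J J K).map (frobenius K 2))
      ((g : Matrix J J K).map ((frobenius K 2).comp (frobenius K 2)))}
  one_mem' := ⟨fun x => by simp, by simpa using Rel.one⟩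
  mul_mem' := by
    rintro a b ⟨ha, ha'⟩ ⟨hb, hb'⟩
    refine ⟨fun x => ?_, ?_⟩
    · rw [Units.val_mul, ← Matrix.mulVec_mulVec, ha, hb]
    · rw [Units.val_mul, Matrix.map_mul, Matrix.map_mul]
      exact ha'.mul hb'
  inv_mem' := by
    rintro a ⟨ha, ha'⟩
    refine ⟨fun x => ?_, fun x y => ?_⟩
    · conv_rhs => rw [← Matrix.one_mulVec x, ← a.mul_inv, ← Matrix.mulVec_mulVec, ha]
    · have e : ∀ (f : K →+* K) (z : J → K),
          ((a : Matrix J J K).map f).mulVec (((a⁻¹ : GL J K) : Matrix J J K).map f |>.mulVec z) = z := by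
        intro f z
        rw [Matrix.mulVec_mulVec, ← Matrix.map_mul, a.mul_inv, Matrix.map_one _ (map_zero f) (map_one f),
          Matrix.one_mulVec]
      conv_rhs => rw [← e (frobenius K 2) x, ← e ((frobenius K 2).comp (frobenius K 2)) y, ha',
        Matrix.mulVec_mulVec, a.inv_mul, Matrix.one_mulVec]

/-- the matrices fixing the first four coordinates' span -/
def Stab0 (K : Type*) [Field K] : Subgroup (GL J K) where
  carrier := {g | (∀ i j, (g : Matrix J J K) (.inr i) (.inl j) = 0) ∧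
    ∀ i j, ((g⁻¹ : GL J K) : Matrix J J K) (.inr i) (.inl j) = 0}
  one_mem' := ⟨fun i j => by simp, fun i j => by simp⟩
  mul_mem' := by
    have key : ∀ A B : Matrix J J K, (∀ i j, A (.inr i) (.inl j) = 0) →
        (∀ i j, B (.inr i) (.inl j) = 0) → ∀ i j, (A * B) (.inr i) (.inl j) = 0 := by
      intro A B hA hB i j
      rw [Matrix.mul_apply]
      refine Finset.sum_eq_zero fun k _ => ?_
      rcases k with k | k
      · rw [hA, zero_mul]
      · rw [hB, mul_zero]
    rintro a b ⟨ha, ha'⟩ ⟨hb, hb'⟩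
    refine ⟨?_, ?_⟩
    · rw [Units.val_mul]; exact key _ _ ha hb
    · rw [mul_inv_rev, Units.val_mul]; exact key _ _ hb' ha'
  inv_mem' := by
    rintro a ⟨ha, ha'⟩
    exact ⟨ha', by rwa [inv_inv]⟩

variable (hK : Fintype.card K = 2 ^ 3)

include hK

theorem pow_eight (t : K) : t ^ 8 = t := by
  have h := FiniteField.pow_card t
  rwa [hK] at h

theorem sym_triple {a b c : Fin chevD4.nroots}
    (h1 : (a.val, c.val, b.val) ∈ rel3) (h2 : (b.val, a.val, c.val) ∈ rel3)
    (h3 : (c.val, b.val, a.val) ∈ rel3)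
    (hc1 : ∀ t u : K, nxL (tabD4 a.val) t * nxL (tabD4 b.val) u = nxL (tabD4 b.val) u * nxL (tabD4 a.val) t)
    (hc2 : ∀ t u : K, nxL (tabD4 a.val) t * nxL (tabD4 c.val) u = nxL (tabD4 c.val) u * nxL (tabD4 a.val) t)
    (hc3 : ∀ t u : K, nxL (tabD4 b.val) t * nxL (tabD4 c.val) u = nxL (tabD4 c.val) u * nxL (tabD4 b.val) t)
    (hq : ∀ r ∈ [a, b, c], r.val ∈ [18, 13, 12, 5, 10, 11, 14, 9]) (t : K) :
    D4Nat.rho (C.G.xc a t * C.G.xc b (t ^ 2) * C.G.xc c (t ^ 2 ^ 2)) ∈ Sym K := by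
  refine ⟨fun x => ?_, ?_⟩
  · simp only [map_mul, Units.val_mul, D4Nat.rho_xc, ← Matrix.mulVec_mulVec]
    rw [Qf_gen (hq a (by simp)), Qf_gen (hq b (by simp)), Qf_gen (hq c (by simp))]
  · simp only [map_mul, Units.val_mul, D4Nat.rho_xc, Matrix.map_mul]
    have hmap : ∀ (f : K →+* K) (L : Ents J) (s : K), (nxL L s).map f = nxL L (f s) := by
      intro f L s
      simp only [nxL]
      rw [← RingHom.mapMatrix_apply, map_add, map_one, map_list_sum, List.map_map]
      congr 2
      refine List.map_congr_left fun e _ => ?_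
      simp only [Function.comp_apply, RingHom.mapMatrix_apply, Matrix.map_single, map_mul,
        map_intCast, map_pow]
    simp only [hmap, frobenius_def, RingHom.comp_apply]
    have h8 : (t ^ 2 ^ 2) ^ 2 = t := by rw [← pow_mul]; exact pow_eight hK t
    rw [h8, show (t ^ 2) ^ 2 = t ^ 2 ^ 2 by rw [← pow_mul]; rfl, h8]
    have e1 := rel_gen h1 t
    have e2 := rel_gen h2 (t ^ 2)
    have e3 := rel_gen h3 (t ^ 2 ^ 2)
    have h := (e1.mul e2).mul e3
    rw [show nxL (tabD4 a.val) (t ^ 2) * nxL (tabD4 b.val) (t ^ 2 ^ 2) * nxL (tabD4 c.val) t =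
        nxL (tabD4 c.val) t * nxL (tabD4 a.val) (t ^ 2) * nxL (tabD4 b.val) (t ^ 2 ^ 2) by
      rw [mul_assoc, hc3, ← mul_assoc, hc2],
      show nxL (tabD4 a.val) (t ^ 2 ^ 2) * nxL (tabD4 b.val) t * nxL (tabD4 c.val) (t ^ 2) =
        nxL (tabD4 b.val) t * nxL (tabD4 c.val) (t ^ 2) * nxL (tabD4 a.val) (t ^ 2 ^ 2) by
      rw [hc1, mul_assoc, hc2, ← mul_assoc]]
    exact h

theorem exists_sym {g : GL chevD4.Idx K} (hg : g ∈ twistedD4 K 2) :
    ∃ gt : chevD4.SteinbergCover K, C.theta gt = g ∧ D4Nat.rho gt ∈ Sym K := by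
  suffices h : twistedD4 K 2 ≤ ((Sym K).comap D4Nat.rho).map C.theta by
    obtain ⟨gt, h1, h2⟩ := h hg
    exact ⟨gt, h2, h1⟩
  refine C.G.gen_le fun w hw => ?_
  rcases hw with ⟨t, ht, r, hr, rfl⟩ | ⟨t, rs, hrs, rfl⟩
  · have hr' : r < chevD4.nroots ∧ (r, r, r) ∈ rel3 ∧ r ∈ [18, 13, 12, 5, 10, 11, 14, 9] := by
      revert r; decide +kernel
    refine ⟨[(⟨r, hr'.1⟩, t)], rfl, ?_⟩
    refine ⟨C.G.xc ⟨r, hr'.1⟩ t, ⟨fun x => ?_, ?_⟩, by simp [C.theta_xc]⟩
    · rw [D4Nat.rho_xc]; exact Qf_gen hr'.2.2 t x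
    · have hmap : ∀ (f : K →+* K), f t = t → (nxL (tabD4 r) t).map f = nxL (tabD4 r) t := by
        intro f hf
        simp only [nxL]
        rw [← RingHom.mapMatrix_apply, map_add, map_one, map_list_sum, List.map_map]
        congr 2
        refine List.map_congr_left fun e _ => ?_
        simp only [Function.comp_apply, RingHom.mapMatrix_apply, Matrix.map_single, map_mul,
          map_intCast, map_pow, hf]
      rw [D4Nat.rho_xc, hmap _ (by rw [frobenius_def, ht]),
        hmap _ (by rw [RingHom.comp_apply, frobenius_def, frobenius_def, ht, ht])]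
      exact rel_gen hr'.2.1 t
  · have hd : ∀ rs ∈ [(d4p1, d4p3, d4p4), (d4m1, d4m3, d4m4)],
        rs.1 < chevD4.nroots ∧ rs.2.1 < chevD4.nroots ∧ rs.2.2 < chevD4.nroots ∧
        (rs.1, rs.2.2, rs.2.1) ∈ rel3 ∧ (rs.2.1, rs.1, rs.2.2) ∈ rel3 ∧
        (rs.2.2, rs.2.1, rs.1) ∈ rel3 ∧
        ∀ r ∈ [rs.1, rs.2.1, rs.2.2], r ∈ [18, 13, 12, 5, 10, 11, 14, 9] := by decide +kernel
    obtain ⟨k1, k2, k3, h1, h2, h3, hq⟩ := hd rs hrs
    refine ⟨[(⟨rs.1, k1⟩, t), (⟨rs.2.1, k2⟩, t ^ 2), (⟨rs.2.2, k3⟩, t ^ 2 ^ 2)], rfl, ?_⟩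
    refine ⟨_, sym_triple hK (a := ⟨rs.1, k1⟩) (b := ⟨rs.2.1, k2⟩) (c := ⟨rs.2.2, k3⟩) h1 h2 h3
      ?_ ?_ ?_ (by simpa using hq) t, by simp [C.theta_xc, mul_assoc]⟩
    all_goals
      simp only [List.mem_cons, List.not_mem_nil, or_false] at hrs
      intro t u
      refine Matrix.ext_of_mulVec_single fun j => funext fun i => ?_
      rcases hrs with rfl | rfl <;>
        simp only [← Matrix.mulVec_mulVec, nxL_mulVec, d4p1, d4p3, d4p4, d4m1, d4m3, d4m4, tabD4] <;>
        rcases j with j | j <;> fin_cases j <;> rcases i with i | i <;> fin_cases i <;>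
        simp [Pi.single_apply, mul_comm]

theorem exists_stab {g : GL chevD4.Idx K} (hg : g ∈ chevD4.posUnipotent K) :
    ∃ gt : chevD4.SteinbergCover K, C.theta gt = g ∧ D4Nat.rho gt ∈ Stab0 K := by
  suffices h : chevD4.posUnipotent K ≤ ((Stab0 K).comap D4Nat.rho).map C.theta by
    obtain ⟨gt, h1, h2⟩ := h hg
    exact ⟨gt, h2, h1⟩
  rw [C.G.posUnipotent_eq_closure, Subgroup.closure_le]
  rintro _ ⟨r, t, hr, rfl⟩
  have hzero : ∀ r : Fin chevD4.nroots, 12 ≤ r.val → ∀ e ∈ tabD4 r.val,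
      ∀ i j : Fin 4, ¬ (e.2.2.1 = .inr i ∧ e.2.2.2 = .inl j) := by decide +kernel
  have hr' : 12 ≤ r.val := by
    rwa [C.G.pos_iff_half, show chevD4.nroots / 2 = 12 from by decide +kernel] at hr
  have hz : ∀ (s : K) (i j : Fin 4), nxL (tabD4 r.val) s (.inr i) (.inl j) = 0 := by
    intro s i j
    have h := hzero r hr'
    simp only [nxL, Matrix.add_apply]
    rw [Matrix.one_apply_ne (by simp), zero_add]
    generalize tabD4 r.val = L at h ⊢
    induction L with
    | nil => simp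
    | cons e L ih =>
      rw [List.map_cons, List.sum_cons, Matrix.add_apply, Matrix.single_apply,
        if_neg (h e List.mem_cons_self i j), zero_add]
      exact ih fun x hx => h x (List.mem_cons_of_mem _ hx)
  refine ⟨C.G.xc r t, ⟨fun i j => ?_, fun i j => ?_⟩, C.theta_xc r t⟩
  · rw [D4Nat.rho_xc]; exact hz t i j
  · rw [← map_inv, C.G.xc_inv, D4Nat.rho_xc]; exact hz (-t) i j

omit hK

theorem rho_eq_of_theta {a b : chevD4.SteinbergCover K} (h : C.theta a = C.theta b) :
    D4Nat.rho a = D4Nat.rho b := by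
  obtain ⟨c, hc, e⟩ := D4Nat.rho_of_theta_eq h
  refine Units.ext ?_
  rw [e, show c = 1 by rcases hc with h | h <;> simp [h, CharTwo.neg_eq], one_smul]

/-- the representation -/
noncomputable def rep (hK : Fintype.card K = 2 ^ 3) : ↥(twistedD4 K 2) →* GL J K where
  toFun g := D4Nat.rho (exists_sym hK g.2).choose
  map_one' := by
    rw [← map_one D4Nat.rho]
    exact rho_eq_of_theta ((exists_sym hK (1 : ↥(twistedD4 K 2)).2).choose_spec.1.trans (map_one _).symm)
  map_mul' x y := by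
    rw [← map_mul]
    refine rho_eq_of_theta ?_
    rw [map_mul, (exists_sym hK (x * y).2).choose_spec.1, (exists_sym hK x.2).choose_spec.1,
      (exists_sym hK y.2).choose_spec.1]
    rfl

include hK

theorem rep_of_theta {g : ↥(twistedD4 K 2)} {gt : chevD4.SteinbergCover K}
    (h : C.theta gt = (g : GL chevD4.Idx K)) : rep hK g = D4Nat.rho gt :=
  rho_eq_of_theta (by rw [h, (exists_sym hK g.2).choose_spec.1])

theorem rep_sym (g : ↥(twistedD4 K 2)) : rep hK g ∈ Sym K :=
  (exists_sym hK g.2).choose_spec.2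

theorem rep_injective : Function.Injective (rep hK) := by
  rw [← MonoidHom.ker_eq_bot_iff]
  refine ((summary2 isPrimePow_two hK).2.2.1.eq_bot_or_eq_top_of_normal _
    (MonoidHom.normal_ker _)).resolve_right fun h => ?_
  obtain ⟨θ, hθ⟩ := Frob.exists_powEquiv (K := K) isPrimePow_two hK
  have hm := (single_mem θ hθ (map_one θ)).1
  have h1 : rep hK ⟨_, hm⟩ = 1 := MonoidHom.mem_ker.1 (by rw [h]; trivial)
  rw [rep_of_theta hK (gt := C.G.xc (rt 14) 1) (C.theta_xc _ _)] at h1
  have e := congrArg (fun g : GL J K => (g : Matrix J J K) (.inl 1) (.inl 2)) h1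
  simp [D4Nat.rho_xc, nxL, tabD4, rt] at e

omit hK

/-- a form-preserving matrix fixing the span has `u + 1` of even rank -/
theorem even_rank_of_stab {u : GL J K} (hu : u ∈ Sym K) (hs : u ∈ Stab0 K) :
    Even (Module.finrank K (LinearMap.range
      (Matrix.toLinAlgEquiv' (u : Matrix J J K) + 1 : Module.End K (J → K)))) := by
  obtain ⟨hQ, -⟩ := hu
  set T : Module.End K (J → K) := Matrix.toLinAlgEquiv' (u : Matrix J J K)
  have hT : ∀ x, T x = (u : Matrix J J K).mulVec x := fun x => Matrix.toLinAlgEquiv'_apply _ _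
  let w : Module.End K (J → K) :=
    { toFun := fun x => Sum.elim (fun i => x (.inl i)) fun i => T x (.inr i)
      map_add' := fun x y => by funext i; rcases i with i | i <;> simp [map_add]
      map_smul' := fun r x => by funext i; rcases i with i | i <;> simp [map_smul] }
  have hw : Function.Surjective w := by
    refine LinearMap.injective_iff_surjective.1 ((injective_iff_map_eq_zero _).2 fun x hx => ?_)
    have h0 : ∀ i, x (.inl i) = 0 := fun i => congrFun hx (.inl i)
    have h1 : ∀ i, T x (.inr i) = 0 := fun i => congrFun hx (.inr i)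
    funext i
    rcases i with i | i
    · exact h0 i
    · have e : x = ((u⁻¹ : GL J K) : Matrix J J K).mulVec (T x) := by
        rw [hT, Matrix.mulVec_mulVec, u.inv_mul, Matrix.one_mulVec]
      refine (congrFun e (.inr i)).trans ?_
      show ∑ k, ((u⁻¹ : GL J K) : Matrix J J K) (.inr i) k * T x k = 0
      refine Finset.sum_eq_zero fun k _ => ?_
      rcases k with k | k
      · show ((u⁻¹ : GL J K) : Matrix J J K) (.inr i) (.inl k) * T x (.inl k) = 0
        rw [hs.2, zero_mul]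
      · show _ * T x (.inr k) = 0
        rw [h1, mul_zero]
  obtain ⟨sec, hsec⟩ := LinearMap.exists_rightInverse_of_surjective
    (LinearMap.rangeRestrict (T + 1 : Module.End K (J → K))) (LinearMap.range_rangeRestrict _)
  have hsec' : ∀ b : LinearMap.range (T + 1), (T + 1) (sec b) = b := fun b =>
    congrArg Subtype.val (LinearMap.congr_fun hsec b)
  have halt : ∀ x, pol (w x) ((T + 1) x) = 0 := by
    intro x
    have h1 : Qf (T x) + Qf x = 0 := by rw [hT, hQ, CharTwo.add_self_eq_zero]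
    have h2 : pol (w x) ((T + 1) x) = Qf (T x) + Qf x +
        (∑ i : Fin 4, x (.inl i) * T x (.inr i)) + ∑ i : Fin 4, x (.inl i) * T x (.inr i) := by
      simp only [pol, Qf, w, LinearMap.coe_mk, AddHom.coe_mk, Sum.elim_inl, Sum.elim_inr,
        LinearMap.add_apply, Pi.add_apply, Module.End.one_apply, Fin.sum_univ_four]
      ring
    rw [h2, h1, zero_add, CharTwo.add_self_eq_zero]
  let β : LinearMap.BilinForm K (J → K) := polB.comp w (T + 1)
  refine CfsgLib.Char.SpClass.finrank_even_of_alt (β.comp sec sec) (fun a => halt _) fun a ha => ?_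
  refine Subtype.ext (pol_nondeg _ fun b => ?_)
  obtain ⟨x, rfl⟩ := hw b
  have hβ : β.IsAlt := halt
  have h1 : β (sec a) x = 0 := by
    have h2 : pol (w (sec a)) ((T + 1) (sec ⟨(T + 1) x, LinearMap.mem_range_self (T + 1) x⟩)) = 0 :=
      ha _
    rw [hsec'] at h2
    exact h2
  have h2 : β x (sec a) = 0 := hβ.isRefl _ _ h1
  rw [pol_comm]
  show pol (w x) (a : J → K) = 0
  rw [← hsec' a]
  exact h2

include hK

theorem even_rank_two_element {u : ↥(twistedD4 K 2)} {a : ℕ} (hu : u ^ 2 ^ a = 1) :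
    Even (Module.finrank K (LinearMap.range
      (Matrix.toLinAlgEquiv' (rep hK u : Matrix J J K) + 1 : Module.End K (J → K)))) := by
  classical
  haveI : Fact (Nat.Prime 2) := ⟨Nat.prime_two⟩
  obtain ⟨-, hU, -, hG, -⟩ := summary (K := K) isPrimePow_two hK
  let S : Subgroup ↥(twistedD4 K 2) := (chevD4.posUnipotent K ⊓ twistedD4 K 2).subgroupOf (twistedD4 K 2)
  have hS : Nat.card S = 2 ^ 12 := by
    rw [← hU]
    exact Nat.card_congr (Subgroup.subgroupOfEquivOfLe inf_le_right).toEquiv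
  let P : Sylow 2 ↥(twistedD4 K 2) := Sylow.ofCard S (by
    rw [hS, hG]
    congr 1
    have hN : ¬ 2 ∣ (2 - 1) * (2 ^ 3 - 1) *
        (1 + 2 + 2 ^ 3 + 2 * 2 ^ 4 + 2 ^ 5 + 2 ^ 7 + 2 * 2 ^ 8 + 2 ^ 9 + 2 ^ 11 + 2 ^ 12) := by
      decide +kernel
    rw [mul_assoc, Nat.factorization_mul (by norm_num) (fun e => by rw [e] at hN; exact hN (dvd_zero _)),
      Finsupp.add_apply, Nat.Prime.factorization_pow Nat.prime_two, Finsupp.single_eq_same,
      Nat.factorization_eq_zero_of_not_dvd hN])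
  have hz : IsPGroup 2 (Subgroup.zpowers u) := by
    rintro ⟨x, k, rfl⟩
    refine ⟨a, Subtype.ext ?_⟩
    show (u ^ k) ^ 2 ^ a = 1
    rw [← zpow_natCast, zpow_comm, zpow_natCast, hu, one_zpow]
  obtain ⟨Q, hQ⟩ := hz.exists_le_sylow
  obtain ⟨c, hc⟩ := MulAction.exists_smul_eq ↥(twistedD4 K 2) Q P
  have hm : c * u * c⁻¹ ∈ S := by
    have h : MulAut.conj c • u ∈ (c • Q : Sylow 2 ↥(twistedD4 K 2)) :=
      Subgroup.smul_mem_pointwise_smul u (MulAut.conj c) _ (hQ (Subgroup.mem_zpowers u))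
    rw [hc] at h
    exact h
  obtain ⟨gt, hgt, hst⟩ := exists_stab hK hm.1
  have h := even_rank_of_stab (u := rep hK (c * u * c⁻¹)) (rep_sym hK _)
    (by rw [rep_of_theta hK hgt]; exact hst)
  convert h using 1
  set f : GL J K := rep hK c
  have he : Matrix.toLinAlgEquiv' (rep hK (c * u * c⁻¹) : Matrix J J K) + 1 =
      Matrix.toLinAlgEquiv' (f : Matrix J J K) *
        (Matrix.toLinAlgEquiv' (rep hK u : Matrix J J K) + 1) *
        Matrix.toLinAlgEquiv' ((f⁻¹ : GL J K) : Matrix J J K) := by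
    rw [mul_add, add_mul, mul_one, ← map_mul, ← map_mul, ← map_mul, f.mul_inv, map_one,
      map_mul (rep hK), map_mul (rep hK), map_inv]
    rfl
  have hb : ∀ g : GL J K, Function.Bijective (Matrix.toLinAlgEquiv' (g : Matrix J J K)) := fun g =>
    (Module.End.isUnit_iff _).1 (g.isUnit.map Matrix.toLinAlgEquiv')
  rw [he, Module.End.mul_eq_comp, LinearMap.range_comp_of_range_eq_top _
    (LinearMap.range_eq_top.2 (hb f⁻¹).2), Module.End.mul_eq_comp, LinearMap.range_comp]
  exact LinearEquiv.finrank_eq (Submodule.equivMapOfInjective _ (hb f).1 _)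

end

end CfsgLib.Lie.TD4Spec
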