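import Cfsg.Agent.Lib.Lie.Chev.Nat.Tables
import Mathlib.LinearAlgebra.BilinearMap

/-!
# The bilinear product of the three eight-dimensional representations in characteristic two

The product composes with the quadratic form `∑ xᵢ xᵢ'` and intertwines the natural representation
with its two images under the triality; the tables are machine-made.
-/

set_option autoImplicit false
set_option maxHeartbeats 2000000

namespace CfsgLib.Lie.TD4Spec

open CfsgLib.Lie.NatRep

/-- the coordinates -/
abbrev J : Type := IP 4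

variable {K : Type*} [Field K]

/-- the quadratic form -/
def Qf (x : J → K) : K := ∑ i : Fin 4, x (.inl i) * x (.inr i)

/-- the bilinear form -/
def pol (x y : J → K) : K := ∑ i : Fin 4, (x (.inl i) * y (.inr i) + x (.inr i) * y (.inl i))

/-- the product -/
def mu (x y : J → K) : J → K :=
  Sum.elim
    ![ x (.inl 0) * y (.inr 3) + x (.inl 1) * y (.inl 2) + x (.inl 2) * y (.inl 1) + x (.inl 3) * y (.inl 0),
      x (.inl 0) * y (.inr 2) + x (.inl 1) * y (.inl 3) + x (.inr 2) * y (.inl 0) + x (.inr 3) * y (.inl 1),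
      x (.inl 0) * y (.inr 1) + x (.inl 2) * y (.inl 3) + x (.inr 1) * y (.inl 0) + x (.inr 3) * y (.inl 2),
      x (.inl 1) * y (.inr 1) + x (.inl 2) * y (.inr 2) + x (.inr 0) * y (.inl 0) + x (.inr 3) * y (.inr 3) ]
    ![ x (.inr 0) * y (.inl 3) + x (.inr 1) * y (.inr 2) + x (.inr 2) * y (.inr 1) + x (.inr 3) * y (.inr 0),
      x (.inl 2) * y (.inr 0) + x (.inl 3) * y (.inr 1) + x (.inr 0) * y (.inl 2) + x (.inr 1) * y (.inr 3),
      x (.inl 1) * y (.inr 0) + x (.inl 3) * y (.inr 2) + x (.inr 0) * y (.inl 1) + x (.inr 2) * y (.inr 3),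
      x (.inl 0) * y (.inr 0) + x (.inl 3) * y (.inl 3) + x (.inr 1) * y (.inl 1) + x (.inr 2) * y (.inl 2) ]

theorem Qf_add (x y : J → K) : Qf (x + y) = Qf x + Qf y + pol x y := by
  simp only [Qf, pol, Pi.add_apply, Fin.sum_univ_four]
  ring

theorem pol_comm (x y : J → K) : pol x y = pol y x := by
  simp only [pol, Fin.sum_univ_four]
  ring

/-- the bilinear form as a bilinear map -/
def polB : LinearMap.BilinForm K (J → K) :=
  LinearMap.mk₂ K pol
    (fun a b c => by simp only [pol, Pi.add_apply, Fin.sum_univ_four]; ring)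
    (fun r a b => by simp only [pol, Pi.smul_apply, smul_eq_mul, Fin.sum_univ_four]; ring)
    (fun a b c => by simp only [pol, Pi.add_apply, Fin.sum_univ_four]; ring)
    (fun r a b => by simp only [pol, Pi.smul_apply, smul_eq_mul, Fin.sum_univ_four]; ring)

theorem polB_apply (x y : J → K) : polB x y = pol x y := rfl

theorem pol_nondeg (a : J → K) (h : ∀ b, pol a b = 0) : a = 0 := by
  funext i
  have h1 := h (Pi.single (Sum.swap i) 1)
  rcases i with i | i <;> fin_cases i <;>
    simpa [pol, Fin.sum_univ_four] using h1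

/-- the product as a bilinear map -/
def muB : (J → K) →ₗ[K] (J → K) →ₗ[K] (J → K) :=
  LinearMap.mk₂ K mu
    (fun a b c => by
      funext k; rcases k with k | k <;> fin_cases k <;> simp [mu] <;> ring)
    (fun r a b => by
      funext k; rcases k with k | k <;> fin_cases k <;> simp [mu] <;> ring)
    (fun a b c => by
      funext k; rcases k with k | k <;> fin_cases k <;> simp [mu] <;> ring)
    (fun r a b => by
      funext k; rcases k with k | k <;> fin_cases k <;> simp [mu] <;> ring)

theorem muB_apply (x y : J → K) : muB x y = mu x y := rfl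

variable [CharP K 2]

theorem Qf_mu (x y : J → K) : Qf (mu x y) = Qf x * Qf y := by
  simp only [Qf, mu, Fin.sum_univ_four, Sum.elim_inl, Sum.elim_inr, Matrix.cons_val]
  ring_nf
  simp [CharTwo.two_eq_zero]

/-- a triple of matrices respecting the product -/
def Rel (A B C : Matrix J J K) : Prop :=
  ∀ x y, mu (B.mulVec x) (C.mulVec y) = A.mulVec (mu x y)

theorem Rel.one : Rel (1 : Matrix J J K) 1 1 := fun x y => by simp

theorem Rel.mul {A B C A' B' C' : Matrix J J K} (h : Rel A B C) (h' : Rel A' B' C') :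
    Rel (A * A') (B * B') (C * C') := fun x y => by
  simp only [← Matrix.mulVec_mulVec]
  rw [h, h']

/-- the roots of a triple -/
def rel3 : List (ℕ × ℕ × ℕ) :=
  [(18, 12, 13), (13, 18, 12), (12, 13, 18), (5, 11, 10), (10, 5, 11), (11, 10, 5), (14, 14, 14),
    (9, 9, 9)]

theorem rel_gen {r : ℕ × ℕ × ℕ} (hr : r ∈ rel3) (t : K) :
    Rel (nxL (tabD4 r.1) t) (nxL (tabD4 r.2.1) t) (nxL (tabD4 r.2.2) t) := by
  intro x y
  simp only [rel3, List.mem_cons, List.not_mem_nil, or_false] at hr
  funext k
  rcases hr with rfl | rfl | rfl | rfl | rfl | rfl | rfl | rfl <;>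
    rcases k with k | k <;> fin_cases k <;>
    simp [nxL_mulVec, tabD4, mu, CharTwo.neg_eq] <;>
    ring_nf <;> simp [CharTwo.two_eq_zero]

theorem Qf_gen {r : ℕ} (hr : r ∈ [18, 13, 12, 5, 10, 11, 14, 9]) (t : K) (x : J → K) :
    Qf ((nxL (tabD4 r) t).mulVec x) = Qf x := by
  simp only [List.mem_cons, List.not_mem_nil, or_false] at hr
  rcases hr with rfl | rfl | rfl | rfl | rfl | rfl | rfl | rfl <;>
    simp [nxL_mulVec, tabD4, Qf, Fin.sum_univ_four, CharTwo.neg_eq] <;>
    ring_nf <;> simp [CharTwo.two_eq_zero]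

end CfsgLib.Lie.TD4Spec
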